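import Groth.Agent.HurwNorm.Length
import Groth.Agent.PaLe.Main
import Groth.Agent.Kleiman.Generic
import Groth.Agent.H23.CoverPush

/-!
# A finite map of normal curves over an affine open of the target
-/

noncomputable section

set_option autoImplicit false
set_option linter.style.haveILetI false
set_option linter.unusedSectionVars false
set_option backward.isDefEq.respectTransparency false
set_option backward.isDefEq.respectTransparency.types false
set_option maxHeartbeats 1000000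

universe u

open CategoryTheory CategoryTheory.Limits AlgebraicGeometry TopologicalSpace Opposite

namespace Groth.Agent.HurwNorm

open Groth.Agent
open Groth.Agent.CurveCohLib.Polar (gη_injective eta_mem)

variable (k : Type u) [Field k] {X Y : Scheme.{u}} [X.Over (Spec (CommRingCat.of k))]
  [Y.Over (Spec (CommRingCat.of k))] [IsIntegral X] [IsIntegral Y]

/-- The base field inside the functions on an open. -/
def kHom (Z : Scheme.{u}) [Z.Over (Spec (CommRingCat.of k))] (U : Z.Opens) : k →+* Γ(Z, U) :=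
  (Z.presheaf.map (homOfLE (le_top : U ≤ ⊤)).op).hom.comp (Coh.toGlobal (Z ↘ Spec (CommRingCat.of k)))

/-- The functions on an open as an algebra over the base field. -/
abbrev kAlg (Z : Scheme.{u}) [Z.Over (Spec (CommRingCat.of k))] (U : Z.Opens) : Algebra k Γ(Z, U) :=
  (kHom k Z U).toAlgebra

theorem germ_kHom (Z : Scheme.{u}) [Z.Over (Spec (CommRingCat.of k))] {U : Z.Opens} {z : Z} (hz : z ∈ U) (c : k) :
    Z.presheaf.germ U z hz (kHom k Z U c) = Curv2.stalkMap k Z z c :=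
  TopCat.Presheaf.germ_res_apply Z.presheaf _ _ _ _

theorem app_kHom {f : X ⟶ Y} (hf : f ≫ (Y ↘ Spec (CommRingCat.of k)) = X ↘ Spec (CommRingCat.of k))
    (W : Y.Opens) (c : k) : f.app W (kHom k Y W c) = kHom k X (f ⁻¹ᵁ W) c := by
  refine (congr($(f.naturality (homOfLE (le_top : W ≤ ⊤)).op) _)).trans ?_
  show X.presheaf.map _ (f.appTop ((Y ↘ Spec (CommRingCat.of k)).appTop _)) =
    X.presheaf.map _ ((X ↘ Spec (CommRingCat.of k)).appTop _)
  simp only [← hf, Scheme.Hom.comp_appTop, CommRingCat.comp_apply]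
  rfl

include k in
theorem finiteType_kHom [IsProper (X ↘ Spec (CommRingCat.of k))] {U : X.Opens} (hU : IsAffineOpen U) :
    (kHom k X U).FiniteType := by
  have h := (X ↘ Spec (CommRingCat.of k)).finiteType_appLE (isAffineOpen_top _) hU
    (le_top.trans (Scheme.Hom.preimage_top _).ge)
  have h2 : kHom k X U = ((X ↘ Spec (CommRingCat.of k)).appLE ⊤ U
      (le_top.trans (Scheme.Hom.preimage_top _).ge)).hom.comp (Scheme.ΓSpecIso (CommRingCat.of k)).inv.hom := by
    rw [Scheme.Hom.appLE]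
    rfl
  rw [h2]
  exact RingHom.FiniteType.comp h (RingHom.FiniteType.of_surjective _
    (Scheme.ΓSpecIso (CommRingCat.of k)).symm.commRingCatIsoToRingEquiv.surjective)

include k in
/-- Residue rings at maximal ideals of an affine piece are finite over the field. -/
theorem finiteDimensional_quot [IsProper (X ↘ Spec (CommRingCat.of k))] {U : X.Opens} (hU : IsAffineOpen U)
    (m : Ideal Γ(X, U)) (hm : m.IsMaximal) :
    letI := kAlg k X U; FiniteDimensional k (Γ(X, U) ⧸ m) := by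
  letI := kAlg k X U
  haveI := hm
  letI := Ideal.Quotient.field m
  haveI : Algebra.FiniteType k Γ(X, U) := finiteType_kHom k hU
  haveI : Algebra.FiniteType k (Γ(X, U) ⧸ m) :=
    Algebra.FiniteType.of_surjective (Ideal.Quotient.mkₐ k m) (Ideal.Quotient.mkₐ_surjective k m)
  exact finite_of_finite_type_of_isJacobsonRing k _

/-- Functions on a nonempty affine open of a normal curve form a Dedekind domain. -/
theorem isDedekindDomain_sections [IsLocallyNoetherian X] (hdim : topologicalKrullDim X ≤ 1)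
    (hn : ∀ x : X, IsIntegrallyClosed (X.presheaf.stalk x)) {U : X.Opens} (hU : IsAffineOpen U) [Nonempty U] :
    IsDedekindDomain Γ(X, U) := by
  haveI : IsNoetherianRing Γ(X, U) := IsLocallyNoetherian.component_noetherian ⟨U, hU⟩
  haveI : Ring.KrullDimLE 1 Γ(X, U) := by
    rw [Ring.krullDimLE_iff, ← PrimeSpectrum.topologicalKrullDim_eq_ringKrullDim]
    exact (hU.fromSpec.isOpenEmbedding.isInducing.topologicalKrullDim_le).trans hdim
  haveI : IsIntegrallyClosed Γ(X, U) := IsIntegrallyClosed.of_localization_maximal fun P _ hP => by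
    have hy : hU.fromSpec ⟨P, hP.isPrime⟩ ∈ U := hU.range_fromSpec.le ⟨_, rfl⟩
    letI : Algebra Γ(X, U) (X.presheaf.stalk (hU.fromSpec ⟨P, hP.isPrime⟩)) :=
      X.presheaf.algebra_section_stalk ⟨hU.fromSpec ⟨P, hP.isPrime⟩, hy⟩
    haveI : IsLocalization.AtPrime (X.presheaf.stalk (hU.fromSpec ⟨P, hP.isPrime⟩)) P :=
      hU.isLocalization_stalk' ⟨P, hP.isPrime⟩ hy
    haveI := hn (hU.fromSpec ⟨P, hP.isPrime⟩)
    exact IsIntegrallyClosed.of_equiv (IsLocalization.algEquiv P.primeCompl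
      (X.presheaf.stalk (hU.fromSpec ⟨P, hP.isPrime⟩)) (Localization.AtPrime P)).toRingEquiv
  haveI : Ring.DimensionLEOne Γ(X, U) :=
    ⟨fun {p} hp0 hp => Ring.krullDimLE_one_iff_of_noZeroDivisors.1 inferInstance p hp0 hp⟩
  exact { }

variable {f : X ⟶ Y} (e : f (genericPoint X) = genericPoint Y)

include e in
theorem nonempty_preimage {W : Y.Opens} (hW : genericPoint Y ∈ W) : Nonempty (f ⁻¹ᵁ W) :=
  ⟨⟨genericPoint X, show f (genericPoint X) ∈ W from e.symm ▸ hW⟩⟩

include e in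
/-- The properties of the algebra of functions over an affine open of the target. -/
theorem facts [IsFinite f] [IsProper (X ↘ Spec (CommRingCat.of k))] [IsProper (Y ↘ Spec (CommRingCat.of k))]
    (hf : f ≫ (Y ↘ Spec (CommRingCat.of k)) = X ↘ Spec (CommRingCat.of k))
    (hdX : topologicalKrullDim X ≤ 1) (hdY : topologicalKrullDim Y ≤ 1)
    (hnX : ∀ x : X, IsIntegrallyClosed (X.presheaf.stalk x))
    (hnY : ∀ y : Y, IsIntegrallyClosed (Y.presheaf.stalk y))
    {W : Y.Opens} (hW : IsAffineOpen W) (hηW : genericPoint Y ∈ W) :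
    letI := H23.CoverPush.alg f W
    letI := kAlg k Y W
    letI := kAlg k X (f ⁻¹ᵁ W)
    IsDomain Γ(Y, W) ∧ IsDomain Γ(X, f ⁻¹ᵁ W) ∧ IsDedekindDomain Γ(Y, W) ∧ IsDedekindDomain Γ(X, f ⁻¹ᵁ W) ∧
      Module.Finite Γ(Y, W) Γ(X, f ⁻¹ᵁ W) ∧ Module.IsTorsionFree Γ(Y, W) Γ(X, f ⁻¹ᵁ W) ∧
      IsScalarTower k Γ(Y, W) Γ(X, f ⁻¹ᵁ W) ∧
      ∀ m : Ideal Γ(X, f ⁻¹ᵁ W), m.IsMaximal → FiniteDimensional k (Γ(X, f ⁻¹ᵁ W) ⧸ m) := by
  letI := H23.CoverPush.alg f W
  letI := kAlg k Y W
  letI := kAlg k X (f ⁻¹ᵁ W)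
  haveI := CurveCohLib.isNoetherian_of_proper (k := k) (X := X)
  haveI := CurveCohLib.isNoetherian_of_proper (k := k) (X := Y)
  haveI : Nonempty W := ⟨⟨_, hηW⟩⟩
  haveI := nonempty_preimage e hηW
  have hV : IsAffineOpen (f ⁻¹ᵁ W) := hW.preimage f
  have hinj : Function.Injective (algebraMap Γ(Y, W) Γ(X, f ⁻¹ᵁ W)) := fun a b h => by
    refine gη_injective hηW ((PaLe.ffHom e).injective ?_)
    have h1 := congrArg (PaLe.gX e hηW) (show f.app W a = f.app W b from h)
    rwa [PaLe.gX_app, PaLe.gX_app] at h1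
  refine ⟨inferInstance, inferInstance, isDedekindDomain_sections hdY hnY hW, isDedekindDomain_sections hdX hnX hV,
    IsFinite.finite_app f W hW, ?_, IsScalarTower.of_algebraMap_eq fun c => (app_kHom k hf W c).symm,
    finiteDimensional_quot k hV⟩
  exact Module.isTorsionFree_iff_algebraMap_injective.2 hinj

/-- Separability of the fraction fields of the algebra of functions. -/
theorem isSeparable_fractionRing [IsFinite f]
    (hsep : letI := (PaLe.ffHom e).toAlgebra; Algebra.IsSeparable Y.functionField X.functionField)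
    {W : Y.Opens} (hW : IsAffineOpen W) (hηW : genericPoint Y ∈ W)
    [IsDomain Γ(Y, W)] [IsDomain Γ(X, f ⁻¹ᵁ W)] :
    letI := H23.CoverPush.alg f W
    ∀ [Module.IsTorsionFree Γ(Y, W) Γ(X, f ⁻¹ᵁ W)],
      letI := FractionRing.liftAlgebra Γ(Y, W) (FractionRing Γ(X, f ⁻¹ᵁ W))
      Algebra.IsSeparable (FractionRing Γ(Y, W)) (FractionRing Γ(X, f ⁻¹ᵁ W)) := by
  letI := H23.CoverPush.alg f W
  intro _
  letI := FractionRing.liftAlgebra Γ(Y, W) (FractionRing Γ(X, f ⁻¹ᵁ W))
  letI : Algebra Y.functionField X.functionField := (PaLe.ffHom e).toAlgebra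
  haveI := hsep
  haveI : Nonempty W := ⟨⟨_, hηW⟩⟩
  haveI := nonempty_preimage e hηW
  haveI : IsFractionRing Γ(Y, W) Y.functionField := functionField_isFractionRing_of_isAffineOpen Y W hW
  haveI : IsFractionRing Γ(X, f ⁻¹ᵁ W) X.functionField :=
    functionField_isFractionRing_of_isAffineOpen X (f ⁻¹ᵁ W) (hW.preimage f)
  let e₁ := (FractionRing.algEquiv Γ(Y, W) Y.functionField).toRingEquiv
  let e₂ := (FractionRing.algEquiv Γ(X, f ⁻¹ᵁ W) X.functionField).toRingEquiv
  refine Algebra.IsSeparable.of_equiv_equiv e₁.symm e₂.symm ?_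
  refine IsLocalization.ringHom_ext (nonZeroDivisors Γ(Y, W)) (RingHom.ext fun a => ?_)
  show algebraMap _ _ ((FractionRing.algEquiv Γ(Y, W) Y.functionField).symm (algebraMap Γ(Y, W) _ a)) =
    (FractionRing.algEquiv Γ(X, f ⁻¹ᵁ W) X.functionField).symm (PaLe.ffHom e (algebraMap Γ(Y, W) _ a))
  rw [AlgEquiv.commutes, ← IsScalarTower.algebraMap_apply,
    IsScalarTower.algebraMap_apply Γ(Y, W) Γ(X, f ⁻¹ᵁ W) (FractionRing Γ(X, f ⁻¹ᵁ W))]
  refine ((FractionRing.algEquiv Γ(X, f ⁻¹ᵁ W) X.functionField).symm.commutes _).symm.trans ?_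
  exact congrArg _ (PaLe.gX_app e hηW a)

section Local

attribute [local instance] Curv2.resAlgebra

variable [IsFinite f]

/-- The ramification index and the residue fields at a point, read on an affine open. -/
theorem local_invariants {W : Y.Opens} (hW : IsAffineOpen W) (hηW : genericPoint Y ∈ W) {x : X}
    (hx : IsClosed ({x} : Set X)) (hxW : f x ∈ W) (hyη : f x ≠ genericPoint Y) :
    letI := H23.CoverPush.alg f W
    letI := kAlg k X (f ⁻¹ᵁ W)
    ∀ [IsDedekindDomain Γ(X, f ⁻¹ᵁ W)] [IsDedekindDomain Γ(Y, W)] [Module.IsTorsionFree Γ(Y, W) Γ(X, f ⁻¹ᵁ W)]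
      [Module.Finite Γ(Y, W) Γ(X, f ⁻¹ᵁ W)],
    let P := ((hW.preimage f).primeIdealOf ⟨x, hxW⟩).asIdeal
    let p := (hW.primeIdealOf ⟨f x, hxW⟩).asIdeal
    ∃ (_ : P.IsMaximal) (_ : p.IsMaximal) (_ : P.LiesOver p), P ≠ ⊥ ∧ p ≠ ⊥ ∧
      Module.finrank k (Γ(X, f ⁻¹ᵁ W) ⧸ P) = Module.finrank k (X.residueField x) ∧
      (letI := (f.stalkMap x).hom.toAlgebra
       Ideal.ramificationIdx P Γ(Y, W) =
         Ideal.ramificationIdx (IsLocalRing.maximalIdeal (X.presheaf.stalk x)) (Y.presheaf.stalk (f x))) ∧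
      ∀ n : ℕ, (Algebra.IsSeparable (Γ(Y, W) ⧸ p) (Γ(X, f ⁻¹ᵁ W) ⧸ P) ∧ (n : Γ(Y, W) ⧸ p) ≠ 0 ↔
        (letI := (f.residueFieldMap x).hom.toAlgebra
         Algebra.IsSeparable (Y.residueField (f x)) (X.residueField x) ∧ (n : Y.residueField (f x)) ≠ 0)) := by
  letI := H23.CoverPush.alg f W
  letI := kAlg k X (f ⁻¹ᵁ W)
  intro _ _ _ _
  haveI : Nonempty W := ⟨⟨_, hηW⟩⟩
  have hV : IsAffineOpen (f ⁻¹ᵁ W) := hW.preimage f
  set P := (hV.primeIdealOf ⟨x, hxW⟩).asIdeal with hPdef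
  set p := (hW.primeIdealOf ⟨f x, hxW⟩).asIdeal with hpdef
  intro P' p'
  have hyc : IsClosed ({f x} : Set Y) := by
    have h := f.isClosedMap _ hx
    rwa [Set.image_singleton] at h
  haveI hPm : P.IsMaximal := hV.primeIdealOf_isMaximal_of_isClosed _ hx
  haveI hpm : p.IsMaximal := hW.primeIdealOf_isMaximal_of_isClosed _ hyc
  have hcomap : P.comap (f.app W).hom = p := by
    have h1 := IsAffineOpen.comap_primeIdealOf_appLE (f := f) W hW _ hV le_rfl (x := x) hxW
    rw [Scheme.Hom.appLE_eq_app] at h1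
    exact congrArg PrimeSpectrum.asIdeal h1
  haveI hPp : P.LiesOver p := ⟨hcomap.symm⟩
  have hp0 : p ≠ ⊥ := fun h => by
    have h1 : hW.primeIdealOf ⟨f x, hxW⟩ ≤ hW.primeIdealOf ⟨genericPoint Y, hηW⟩ :=
      (show p ≤ _ from h ▸ bot_le)
    have h2 := ((PrimeSpectrum.le_iff_specializes _ _).1 h1).map hW.fromSpec.continuous
    rw [hW.fromSpec_primeIdealOf, hW.fromSpec_primeIdealOf] at h2
    exact hyη (h2.antisymm ((genericPoint_spec Y).specializes trivial)).eq
  have hinjAS : Function.Injective (algebraMap Γ(Y, W) Γ(X, f ⁻¹ᵁ W)) :=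
    Module.isTorsionFree_iff_algebraMap_injective.1 inferInstance
  have hpS : p.map (algebraMap Γ(Y, W) Γ(X, f ⁻¹ᵁ W)) ≠ ⊥ := Ideal.map_ne_bot_of_ne_bot hp0
  have hP0 : P ≠ ⊥ := ne_bot_of_le_ne_bot hpS (Ideal.map_le_of_le_comap hcomap.ge)
  letI : Algebra Γ(X, f ⁻¹ᵁ W) (X.presheaf.stalk x) := X.presheaf.algebra_section_stalk ⟨x, hxW⟩
  letI : Algebra Γ(Y, W) (Y.presheaf.stalk (f x)) := Y.presheaf.algebra_section_stalk ⟨f x, hxW⟩
  haveI hlocX : IsLocalization.AtPrime (X.presheaf.stalk x) P := hV.isLocalization_stalk ⟨x, hxW⟩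
  haveI hlocY : IsLocalization.AtPrime (Y.presheaf.stalk (f x)) p := hW.isLocalization_stalk ⟨f x, hxW⟩
  letI : Algebra (Y.presheaf.stalk (f x)) (X.presheaf.stalk x) := (f.stalkMap x).hom.toAlgebra
  haveI : IsLocalHom (algebraMap (Y.presheaf.stalk (f x)) (X.presheaf.stalk x)) :=
    inferInstanceAs (IsLocalHom (f.stalkMap x).hom)
  haveI : IsDiscreteValuationRing (X.presheaf.stalk x) :=
    IsLocalization.AtPrime.isDiscreteValuationRing_of_dedekind_domain Γ(X, f ⁻¹ᵁ W) hP0 _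
  set mx := IsLocalRing.maximalIdeal (X.presheaf.stalk x)
  set my := IsLocalRing.maximalIdeal (Y.presheaf.stalk (f x))
  haveI : mx.LiesOver my := ⟨(IsLocalRing.maximalIdeal_comap _).symm⟩
  have hsq : (algebraMap (Y.presheaf.stalk (f x)) (X.presheaf.stalk x)).comp (algebraMap Γ(Y, W) _) =
      (algebraMap Γ(X, f ⁻¹ᵁ W) (X.presheaf.stalk x)).comp (algebraMap Γ(Y, W) Γ(X, f ⁻¹ᵁ W)) :=
    RingHom.ext fun a => Scheme.Hom.germ_stalkMap_apply f W x hxW a
  have hmap : my.map (algebraMap (Y.presheaf.stalk (f x)) (X.presheaf.stalk x)) =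
      mx ^ Ideal.ramificationIdx P Γ(Y, W) := by
    obtain ⟨Q, hQ, hQsplit⟩ := Ideal.eq_prime_pow_mul_coprime hpS P
    rw [← Ideal.IsDedekindDomain.ramificationIdx_eq_normalizedFactors_count p P hpS] at hQsplit
    have hQP : ¬ Q ≤ P := fun h => (Ideal.IsPrime.ne_top inferInstance : P ≠ ⊤) (by rwa [sup_of_le_left h] at hQ)
    show (IsLocalRing.maximalIdeal _).map _ = _
    rw [← IsLocalization.AtPrime.map_eq_maximalIdeal p (Y.presheaf.stalk (f x)), Ideal.map_map, hsq,
      ← Ideal.map_map, hQsplit, Ideal.map_mul, Ideal.map_pow,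
      IsLocalization.AtPrime.map_eq_maximalIdeal P (X.presheaf.stalk x)]
    obtain ⟨q, hq, hqP⟩ := SetLike.not_le_iff_exists.1 hQP
    rw [Ideal.eq_top_of_isUnit_mem _ (Ideal.mem_map_of_mem (algebraMap _ _) hq)
      ((IsLocalization.AtPrime.isUnit_to_map_iff (X.presheaf.stalk x) P q).2 hqP), Ideal.mul_top]
  have hmx0 : mx ≠ ⊥ := IsDiscreteValuationRing.not_a_field _
  have hmy : my.map (algebraMap (Y.presheaf.stalk (f x)) (X.presheaf.stalk x)) ≠ ⊥ := hmap ▸ pow_ne_zero _ hmx0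
  let εy := IsLocalization.AtPrime.equivQuotMaximalIdeal p (Y.presheaf.stalk (f x))
  let εx := IsLocalization.AtPrime.equivQuotMaximalIdeal P (X.presheaf.stalk x)
  refine ⟨hPm, hpm, hPp, hP0, hp0, ?_, ?_, fun n => ?_⟩
  · refine Algebra.finrank_eq_of_equiv_equiv (RingEquiv.refl k)
      (εx : (Γ(X, f ⁻¹ᵁ W) ⧸ P) ≃+* X.residueField x) (RingHom.ext fun c => ?_)
    exact (congrArg (X.residue x) (germ_kHom k X (U := f ⁻¹ᵁ W) hxW c)).symm
  · refine Eq.trans (Eq.symm ?_) (Ideal.ramificationIdx'_eq_ramificationIdx' my mx hmy)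
    refine Ideal.ramificationIdx'_spec hmap.le fun h => ?_
    rw [hmap] at h
    exact (Ideal.pow_right_strictAnti mx hmx0 (IsLocalRing.maximalIdeal.isMaximal _).ne_top
      (Nat.lt_succ_self (Ideal.ramificationIdx P Γ(Y, W)))).not_ge h
  · letI := Ideal.Quotient.field p
    letI := Ideal.Quotient.field P
    letI := (f.residueFieldMap x).hom.toAlgebra
    let ey : (Γ(Y, W) ⧸ p) ≃+* Y.residueField (f x) := εy
    let ex : (Γ(X, f ⁻¹ᵁ W) ⧸ P) ≃+* X.residueField x := εx
    have he : (algebraMap (Y.residueField (f x)) (X.residueField x)).comp (ey : _ →+* _) =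
        (ex : _ →+* _).comp (algebraMap (Γ(Y, W) ⧸ p) (Γ(X, f ⁻¹ᵁ W) ⧸ P)) := by
      refine Ideal.Quotient.ringHom_ext (RingHom.ext fun a => ?_)
      show f.residueFieldMap x (Y.residue (f x) (Y.presheaf.germ W (f x) hxW a)) =
        X.residue x (X.presheaf.germ (f ⁻¹ᵁ W) x hxW (f.app W a))
      rw [← Scheme.Hom.germ_stalkMap_apply]
      exact congr($(Scheme.residue_residueFieldMap f x) _)
    refine and_congr ⟨fun h => ?_, fun h => ?_⟩ (not_congr ?_)
    · exact Algebra.IsSeparable.of_equiv_equiv ey ex he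
    · refine Algebra.IsSeparable.of_equiv_equiv ey.symm ex.symm (RingHom.ext fun a => ?_)
      obtain ⟨a, rfl⟩ := ey.surjective a
      refine ex.injective ?_
      refine Eq.trans ?_ (ex.apply_symm_apply _).symm
      refine Eq.trans ?_ (congr($he a)).symm
      show ex (algebraMap _ _ (ey.symm (ey a))) = _
      rw [ey.symm_apply_apply]
      rfl
    · rw [← map_eq_zero_iff ey ey.injective, map_natCast]

end Local

end Groth.Agent.HurwNorm
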