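import Groth.Agent.DetDeg.LineQuot
import Groth.Agent.S7637
import Groth.Agent.S7643
import Groth.Agent.CurveExt.RegularSub
import Groth.Agent.HomShX.Prec
import Groth.Agent.DualInvX.Basic
import Groth.Agent.Lib.CurveDeg
import Groth.Agent.Lib.CurveDualPrep

/-!
# The degree of the dual of a bundle on a regular curve
-/

set_option autoImplicit false
set_option linter.style.haveILetI false
set_option linter.unusedSectionVars false
set_option backward.isDefEq.respectTransparency false
set_option backward.isDefEq.respectTransparency.types false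
set_option maxHeartbeats 800000

universe u

open CategoryTheory CategoryTheory.Limits AlgebraicGeometry TopologicalSpace Opposite

namespace Groth.Agent.HurwNorm

open Groth.Agent Groth.Agent.CurveBundle

variable (k : Type u) [Field k] {X : Scheme.{u}} [X.Over (Spec (CommRingCat.of k))] [IsIntegral X]
  [IsProper (X ↘ Spec (CommRingCat.of k))]

theorem isFinLocFreeOfRank_dual [IsNoetherian X] {n : ℕ} {E : X.Modules} (hE : FlatMod.IsFinLocFreeOfRank n E) :
    FlatMod.IsFinLocFreeOfRank n (RefHull.dual E) := by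
  have hEf : FlatMod.IsFinLocFree E := fun x => let ⟨W, hx, e⟩ := hE x; ⟨W, n, hx, e⟩
  have hDf : FlatMod.IsFinLocFree (RefHull.dual E) := HomShX.isFinLocFree_homSh hEf
    (fun x => let ⟨W, hx, e⟩ := InvEnd.isFinLocFreeOfRank_one (CurveDeg.isInvertible_structureModule (X := X)) x
      ⟨W, 1, hx, e⟩)
  have h := isFinLocFreeOfRank_rk hDf
  haveI := QCoh.free_stalk_of_isFinLocFree hEf (genericPoint X)
  haveI := finite_stalk_of_coh (CurveDeg.isCoh_of_isFinLocFree hEf) (genericPoint X)
  have hr : rk (RefHull.dual E) = rk E :=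
    (RefX.dualStalk (QCoh.isFP_of_isFinLocFree hEf) (genericPoint X)).finrank_eq.trans
      (Module.finrank_linearMap_self _ _ _)
  rwa [hr, rk_eq hE] at h

/-- The dual has the opposite degree. -/
theorem deg_dual (hdim : topologicalKrullDim X = 1) (hreg : ∀ x : X, IsRegularLocalRing (X.presheaf.stalk x)) :
    ∀ (n : ℕ) (E : X.Modules), FlatMod.IsFinLocFreeOfRank n E →
      Curv2.deg k X (RefHull.dual E) n = - Curv2.deg k X E n := by
  haveI := CurveCohLib.isNoetherian_of_proper (k := k) (X := X)
  haveI : ∀ x : X, IsPrincipalIdealRing (X.presheaf.stalk x) :=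
    fun x => CurveExt.RegularSub.isPrincipalIdealRing_stalk k hdim.le hreg x
  intro n
  induction n with
  | zero =>
    intro E hE
    have hD := isFinLocFreeOfRank_dual hE
    have h1 := isZero_of_rk_zero (fun x => let ⟨W, hx, e⟩ := hE x; ⟨W, 0, hx, e⟩) (rk_eq hE)
    have h2 := isZero_of_rk_zero (fun x => let ⟨W, hx, e⟩ := hD x; ⟨W, 0, hx, e⟩) (rk_eq hD)
    simp [Curv2.deg, CurveSlope.euler_eq_zero_of_isZero k h1, CurveSlope.euler_eq_zero_of_isZero k h2]
  | succ n ih =>
    intro E hE
    obtain ⟨S, hS, rfl, h₁, h₃⟩ := DetDeg.exists_invertible_quotient hE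
    have hT := HomShX.shortExact_prec (Coh.structureModule X) hS
      (fun x => let ⟨W, hx, e⟩ := h₁ x; ⟨W, n, hx, e⟩) (fun x => let ⟨W, hx, e⟩ := hE x; ⟨W, n + 1, hx, e⟩)
      (fun x => let ⟨W, hx, e⟩ := h₃ x; ⟨W, 1, hx, e⟩)
    have hd := S7643.result k X hdim.le _ hT 1 (n + 1) n (isFinLocFreeOfRank_dual h₃) (isFinLocFreeOfRank_dual hE)
      (isFinLocFreeOfRank_dual h₁)
    have hs := S7643.result k X hdim.le S hS n (n + 1) 1 h₁ hE h₃
    have hline : Curv2.deg k X (RefHull.dual S.X₃) 1 = - Curv2.deg k X S.X₃ 1 := by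
      have hinv : PicF.IsInvertible S.X₃ := CurveDuality.isInvertible_of_rank_one h₃
      obtain ⟨e⟩ := DualInvX.nonempty_tensor_dual hinv
      have h := S7637.result k X hdim.le 1 1 S.X₃ (RefHull.dual S.X₃) h₃ (isFinLocFreeOfRank_dual h₃)
      rw [CurveRR.deg_congr k e, mul_one, CurveDeg.deg_structureModule k] at h
      simp only [Nat.cast_one, one_mul] at h
      omega
    show Curv2.deg k X (RefHull.dual S.X₂) (n + 1) = _
    rw [show Curv2.deg k X (RefHull.dual S.X₂) (n + 1) = _ from hd,
      show Curv2.deg k X (RefHull.homSh S.X₃ (Coh.structureModule X)) 1 = _ from hline,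
      show Curv2.deg k X (RefHull.homSh S.X₁ (Coh.structureModule X)) n = _ from ih _ h₁, hs]
    ring

end Groth.Agent.HurwNorm
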