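import Groth.Agent.HurwNorm.Tame

/-!
# The cokernel of the trace pairing and the length of the different

For an extension of Dedekind algebras over a field, the cokernel of `S → Hom_A(S, A)` given by the trace form
has the dimension of `S` modulo the different, which is computed prime by prime.
-/

set_option autoImplicit false
set_option linter.style.haveILetI false
set_option maxHeartbeats 800000

namespace Groth.Agent.HurwNorm

universe u

open Ideal nonZeroDivisors UniqueFactorizationMonoid

variable (k : Type u) [Field k] {S : Type u} [CommRing S] [IsDomain S] [IsDedekindDomain S] [Algebra k S]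
  (hfin : ∀ m : Ideal S, m.IsMaximal → FiniteDimensional k (S ⧸ m))

include hfin in
theorem finrank_quot_pow (P : Ideal S) [P.IsMaximal] (hP0 : P ≠ ⊥) (n : ℕ) :
    FiniteDimensional k (S ⧸ P ^ n) ∧ Module.finrank k (S ⧸ P ^ n) = n * Module.finrank k (S ⧸ P) := by
  haveI := hfin P inferInstance
  induction n with
  | zero =>
    haveI : Subsingleton (S ⧸ P ^ 0) := Ideal.Quotient.subsingleton_iff.mpr (by rw [pow_zero, Ideal.one_eq_top])
    exact ⟨inferInstance, by rw [Module.finrank_zero_of_subsingleton, zero_mul]⟩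
  | succ n ih =>
    obtain ⟨hf, hr⟩ := ih
    haveI := hf
    obtain ⟨x, hx, hx1⟩ := SetLike.exists_of_lt
      (show P ^ (n + 1) < P ^ n from Ideal.pow_right_strictAnti P hP0 (Ideal.IsPrime.ne_top inferInstance) (by omega))
    have hle : (P : Submodule S S) ≤ Submodule.comap (LinearMap.mulRight S x) (P ^ (n + 1)) := fun v hv => by
      show v * x ∈ P ^ (n + 1)
      rw [pow_succ']
      exact Ideal.mul_mem_mul hv hx
    let i : (S ⧸ P) →ₗ[k] S ⧸ P ^ (n + 1) :=
      (Submodule.mapQ (P : Submodule S S) (P ^ (n + 1)) (LinearMap.mulRight S x) hle).restrictScalars k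
    let q : (S ⧸ P ^ (n + 1)) →ₗ[k] S ⧸ P ^ n :=
      (Ideal.Quotient.factorₐ k (Ideal.pow_le_pow_right (Nat.le_succ n))).toLinearMap
    have hsup : Ideal.span {x} ⊔ P ^ (n + 1) = P ^ n := by
      have hle' : Ideal.span {x} ⊔ P ^ (n + 1) ≤ P ^ n :=
        sup_le (by simpa using hx) (Ideal.pow_le_pow_right (Nat.le_succ n))
      obtain ⟨j, hj, hG⟩ := (dvd_prime_pow (Ideal.prime_of_isPrime hP0 inferInstance) (n + 1)).1
        (Ideal.dvd_iff_le.2 (le_sup_right : P ^ (n + 1) ≤ Ideal.span {x} ⊔ P ^ (n + 1)))
      rw [associated_iff_eq] at hG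
      rcases Nat.lt_or_ge j (n + 1) with hjn | hjn
      · exact le_antisymm hle' (hG ▸ Ideal.pow_le_pow_right (by omega))
      · exact absurd (Ideal.pow_le_pow_right hjn (hG ▸ (le_sup_left : Ideal.span {x} ≤ _)
          (Ideal.mem_span_singleton_self x))) hx1
    have hi : Function.Injective i := by
      rw [injective_iff_map_eq_zero]
      intro v hv
      obtain ⟨v, rfl⟩ := Ideal.Quotient.mk_surjective v
      change Ideal.Quotient.mk (P ^ (n + 1)) (v * x) = 0 at hv
      rw [Ideal.Quotient.eq_zero_iff_mem] at hv ⊢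
      by_contra hvP
      refine hx1 ?_
      have hc : IsCoprime (Ideal.span {v}) (P ^ (n + 1)) := IsCoprime.pow_right (n := n + 1) (by
        rw [Ideal.isCoprime_iff_sup_eq]
        exact (Ideal.IsMaximal.out (I := P)).2 _ (lt_of_le_of_ne le_sup_right fun h =>
          hvP (h ▸ Ideal.mem_sup_left (Ideal.mem_span_singleton_self v))))
      have h1 : P ^ (n + 1) ∣ Ideal.span {v} * Ideal.span {x} := Ideal.dvd_iff_le.2 (by
        rw [Ideal.span_singleton_mul_span_singleton]; simpa using hv)
      simpa using Ideal.dvd_iff_le.1 (hc.symm.dvd_of_dvd_mul_left h1) (Ideal.mem_span_singleton_self x)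
    have hq : Function.Surjective q := Ideal.Quotient.factor_surjective (Ideal.pow_le_pow_right (Nat.le_succ n))
    have hex : Function.Exact i q := by
      intro w
      obtain ⟨w, rfl⟩ := Ideal.Quotient.mk_surjective w
      constructor
      · intro hw
        change Ideal.Quotient.mk (P ^ n) w = 0 at hw
        rw [Ideal.Quotient.eq_zero_iff_mem, ← hsup] at hw
        obtain ⟨a, ha, b, hb, rfl⟩ := Submodule.mem_sup.1 hw
        obtain ⟨c, rfl⟩ := Ideal.mem_span_singleton'.1 ha
        refine ⟨Ideal.Quotient.mk P c, ?_⟩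
        show Ideal.Quotient.mk (P ^ (n + 1)) (c * x) = _
        rw [map_add, Ideal.Quotient.eq_zero_iff_mem.2 hb, add_zero]
      · rintro ⟨v, hv⟩
        obtain ⟨v, rfl⟩ := Ideal.Quotient.mk_surjective v
        rw [← hv]
        show Ideal.Quotient.mk (P ^ n) (v * x) = 0
        exact Ideal.Quotient.eq_zero_iff_mem.2 (Ideal.mul_mem_left _ _ hx)
    haveI : FiniteDimensional k (S ⧸ P ^ (n + 1)) := by
      haveI := Module.Finite.of_surjective i.rangeRestrict i.surjective_rangeRestrict
      haveI : IsNoetherian k (S ⧸ P ^ (n + 1)) := isNoetherian_of_range_eq_ker i q hex.linearMap_ker_eq.symm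
      infer_instance
    refine ⟨inferInstance, ?_⟩
    have h1 := q.finrank_range_add_finrank_ker
    rw [LinearMap.range_eq_top.2 hq, finrank_top, hex.linearMap_ker_eq, LinearMap.finrank_range_of_inj hi, hr] at h1
    rw [← h1, Nat.succ_mul]

/-- The expected dimension of `S ⧸ I`. -/
noncomputable def idealDeg (I : Ideal S) : ℕ :=
  ((normalizedFactors I).map fun P => Module.finrank k (S ⧸ P)).sum

theorem idealDeg_mul {I J : Ideal S} (hI : I ≠ ⊥) (hJ : J ≠ ⊥) :
    idealDeg k (I * J) = idealDeg k I + idealDeg k J := by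
  rw [idealDeg, idealDeg, idealDeg, normalizedFactors_mul hI hJ, Multiset.map_add, Multiset.sum_add]

include hfin in
theorem finrank_quot {I : Ideal S} (hI : I ≠ ⊥) :
    FiniteDimensional k (S ⧸ I) ∧ Module.finrank k (S ⧸ I) = idealDeg k I := by
  classical
  let e₀ := IsDedekindDomain.quotientEquivPiFactors hI
  let e : (S ⧸ I) ≃ₐ[k] ∀ P : (factors I).toFinset, S ⧸ (P : Ideal S) ^ (Multiset.count ↑P (factors I)) :=
    { __ := e₀, commutes' := fun _ => rfl }
  have hP : ∀ P : (factors I).toFinset, (P : Ideal S) ≠ ⊥ ∧ (P : Ideal S).IsMaximal := fun P => by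
    have hp := prime_of_factor _ (Multiset.mem_toFinset.mp P.prop)
    exact ⟨hp.ne_zero, (Ideal.isPrime_of_prime hp).isMaximal hp.ne_zero⟩
  have h := fun P : (factors I).toFinset =>
    haveI := (hP P).2
    finrank_quot_pow k hfin (P : Ideal S) (hP P).1 (Multiset.count ↑P (factors I))
  haveI : ∀ P : (factors I).toFinset,
      FiniteDimensional k (S ⧸ (P : Ideal S) ^ (Multiset.count ↑P (factors I))) := fun P => (h P).1
  refine ⟨Module.Finite.equiv e.symm.toLinearEquiv, ?_⟩
  rw [e.toLinearEquiv.finrank_eq, Module.finrank_pi_fintype, Finset.sum_congr rfl fun P _ => (h P).2,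
    idealDeg, ← factors_eq_normalizedFactors, Finset.sum_multiset_map_count]
  exact ((factors I).toFinset.sum_coe_sort fun P => Multiset.count P (factors I) * Module.finrank k (S ⧸ P))

omit [Algebra k S] in
theorem le_count_iff {I : Ideal S} (hI : I ≠ ⊥) (P : Ideal S) [P.IsMaximal] (hP0 : P ≠ ⊥) (n : ℕ) :
    n ≤ (normalizedFactors I).count P ↔ P ^ n ∣ I := by
  rw [dvd_iff_normalizedFactors_le_normalizedFactors (pow_ne_zero n hP0) hI, normalizedFactors_pow,
    normalizedFactors_irreducible (Ideal.prime_of_isPrime hP0 inferInstance).irreducible, normalize_eq,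
    Multiset.nsmul_singleton, Multiset.le_count_iff_replicate_le]

theorem idealDeg_eq_sum {I : Ideal S} (hI : I ≠ ⊥) (F : Finset (Ideal S))
    (hF : ∀ P : Ideal S, P.IsMaximal → P ∣ I → P ∈ F) :
    idealDeg k I = ∑ P ∈ F, (normalizedFactors I).count P * Module.finrank k (S ⧸ P) := by
  classical
  rw [idealDeg, Finset.sum_multiset_map_count]
  refine Finset.sum_subset (fun P hP => ?_) fun P _ hP => ?_
  · rw [Multiset.mem_toFinset] at hP
    have hp := prime_of_normalized_factor P hP
    exact hF P ((Ideal.isPrime_of_prime hp).isMaximal hp.ne_zero) (dvd_of_mem_normalizedFactors hP)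
  · rw [Multiset.mem_toFinset] at hP
    simp [Multiset.count_eq_zero.2 hP]

section Trace

variable (A : Type u) [CommRing A] [IsDomain A] [IsDedekindDomain A] [Algebra A S] [Module.Finite A S]
  [Module.IsTorsionFree A S] [Algebra k A] [IsScalarTower k A S]

attribute [local instance] FractionRing.liftAlgebra FractionRing.isScalarTower_liftAlgebra

/-- The trace pairing. -/
noncomputable def trPair : S →ₗ[A] (S →ₗ[A] A) :=
  (LinearMap.mul A S).compr₂ (Algebra.intTrace A S)

theorem trPair_apply (s t : S) : trPair A s t = Algebra.intTrace A S (s * t) := rfl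

include hfin in
/-- The cokernel of the trace pairing has the degree of the different. -/
theorem finrank_coker_trPair [Algebra.IsSeparable (FractionRing A) (FractionRing S)] :
    Module.finrank k ((S →ₗ[A] A) ⧸ LinearMap.range ((trPair (S := S) A).restrictScalars k)) =
      idealDeg k (differentIdeal A S) := by
  classical
  let K := FractionRing A
  let L := FractionRing S
  haveI hloc : IsLocalization (Algebra.algebraMapSubmonoid S A⁰) L := IsIntegralClosure.isLocalization _ K _ _
  haveI : FiniteDimensional K L := .of_isLocalization A S A⁰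
  haveI : IsLocalizedModule A⁰ (IsScalarTower.toAlgHom A S L).toLinearMap :=
    (isLocalizedModule_iff_isLocalization (S := A⁰) (A := S) (Aₛ := L)).2 hloc
  have hD : differentIdeal A S ≠ ⊥ := differentIdeal_ne_bot
  obtain ⟨c, hc, hc0⟩ := Submodule.exists_mem_ne_zero_of_ne_bot hD
  have hcL : algebraMap S L c ≠ 0 := (map_ne_zero_iff _ (IsFractionRing.injective S L)).2 hc0
  -- `c` times the inverse different
  let J : Ideal S :=
    { carrier := {j | ∀ s : S, ∃ a : A, algebraMap A K a =
        Algebra.trace K L (algebraMap S L j / algebraMap S L c * algebraMap S L s)}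
      add_mem' := fun {x y} hx hy s => by
        obtain ⟨a, ha⟩ := hx s
        obtain ⟨b, hb⟩ := hy s
        exact ⟨a + b, by rw [map_add, ha, hb, map_add, add_div, add_mul, map_add]⟩
      zero_mem' := fun s => ⟨0, by simp⟩
      smul_mem' := fun r x hx s => by
        obtain ⟨a, ha⟩ := hx (r * s)
        refine ⟨a, ha.trans (congrArg _ ?_)⟩
        rw [smul_eq_mul, map_mul, map_mul]
        ring }
  have hdual : ∀ z : L, z ∈ FractionalIdeal.dual A K (1 : FractionalIdeal S⁰ L) ↔
      ∀ s : S, ∃ a : A, algebraMap A K a = Algebra.trace K L (z * algebraMap S L s) := fun z => by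
    rw [FractionalIdeal.mem_dual (by simp)]
    constructor
    · intro h s
      obtain ⟨a, ha⟩ := h (algebraMap S L s) ((FractionalIdeal.mem_one_iff _).2 ⟨s, rfl⟩)
      exact ⟨a, ha.trans (Algebra.traceForm_apply (R := K) (S := L) _ _)⟩
    · intro h w hw
      obtain ⟨s, rfl⟩ := (FractionalIdeal.mem_one_iff _).1 hw
      obtain ⟨a, ha⟩ := h s
      exact ⟨a, ha.trans (Algebra.traceForm_apply (R := K) (S := L) _ _).symm⟩
  have hcz : ∀ z ∈ FractionalIdeal.dual A K (1 : FractionalIdeal S⁰ L),
      ∃ j : S, algebraMap S L j = algebraMap S L c * z := fun z hz => by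
    have h1 : algebraMap S L c * z ∈ ((differentIdeal A S : Ideal S) : FractionalIdeal S⁰ L) *
        FractionalIdeal.dual A K (1 : FractionalIdeal S⁰ L) :=
      FractionalIdeal.mul_mem_mul ⟨c, hc, rfl⟩ hz
    rw [coeIdeal_differentIdeal A K L S, inv_mul_cancel₀ (FractionalIdeal.dual_ne_zero A K (one_ne_zero : (1 : FractionalIdeal S⁰ L) ≠ 0))] at h1
    exact (FractionalIdeal.mem_one_iff _).1 h1
  have hJD : J * differentIdeal A S = Ideal.span {c} := by
    have hJ : ((J : Ideal S) : FractionalIdeal S⁰ L) =
        FractionalIdeal.spanSingleton S⁰ (algebraMap S L c) * FractionalIdeal.dual A K 1 := by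
      refine le_antisymm ?_ ?_
      · rintro _ ⟨j, hj, rfl⟩
        refine FractionalIdeal.mem_singleton_mul.2 ?_
        refine ⟨algebraMap S L j / algebraMap S L c, (hdual _).2 hj, ?_⟩
        rw [Algebra.linearMap_apply, mul_div_cancel₀ _ hcL]
      · intro x hx
        obtain ⟨z, hz, rfl⟩ := FractionalIdeal.mem_singleton_mul.1 hx
        obtain ⟨j, hj⟩ := hcz z hz
        refine ⟨j, fun s => ?_, hj⟩
        rw [hj, mul_div_cancel_left₀ _ hcL]
        exact (hdual z).1 hz s
    rw [← FractionalIdeal.coeIdeal_inj (K := L), FractionalIdeal.coeIdeal_mul, hJ, coeIdeal_differentIdeal A K L S,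
      mul_assoc, mul_inv_cancel₀ (FractionalIdeal.dual_ne_zero A K (one_ne_zero : (1 : FractionalIdeal S⁰ L) ≠ 0)), mul_one,
      FractionalIdeal.coeIdeal_span_singleton]
  -- the linear forms given by elements of `J`
  have hΦ : ∀ j : J, ∀ s : S, ∃ a : A, algebraMap A K a =
      Algebra.trace K L (algebraMap S L j / algebraMap S L c * algebraMap S L s) := fun j => j.2
  choose a ha using hΦ
  have hinjA : Function.Injective (algebraMap A K) := IsFractionRing.injective A K
  let Φ : J →ₗ[k] (S →ₗ[A] A) :=
    { toFun := fun j =>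
        { toFun := a j
          map_add' := fun s t => hinjA (by rw [map_add, ha, ha, ha, ← map_add, map_add, mul_add])
          map_smul' := fun r s => hinjA (by
            rw [ha, RingHom.id_apply, smul_eq_mul, map_mul (algebraMap A K), ha, Algebra.smul_def, map_mul (algebraMap S L),
              ← IsScalarTower.algebraMap_apply A S L, mul_left_comm, ← Algebra.smul_def r,
              LinearMap.map_smul_of_tower, Algebra.smul_def]) }
      map_add' := fun x y => LinearMap.ext fun s => hinjA (by
        show algebraMap A K (a (x + y) s) = algebraMap A K (a x s + a y s)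
        rw [map_add, ha, ha, ha, Submodule.coe_add, map_add, add_div, add_mul, map_add])
      map_smul' := fun r x => LinearMap.ext fun s => hinjA (by
        show algebraMap A K (a (r • x) s) = algebraMap A K (r • a x s)
        rw [ha, Algebra.smul_def, map_mul (algebraMap A K), ha, SetLike.val_smul_of_tower, Algebra.smul_def r (x : S), map_mul (algebraMap S L),
          IsScalarTower.algebraMap_apply k A S, ← IsScalarTower.algebraMap_apply A S L, mul_div_assoc,
          mul_assoc, ← Algebra.smul_def (algebraMap k A r), LinearMap.map_smul_of_tower, Algebra.smul_def]) }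
  have hΦv : ∀ (j : J) (s : S), algebraMap A K (Φ j s) =
      Algebra.trace K L (algebraMap S L j / algebraMap S L c * algebraMap S L s) := fun j s => ha j s
  have hsurj : Function.Surjective Φ := fun f => by
    let g : S →ₗ[A] K := (Algebra.linearMap A K).comp f
    let gL : L →ₗ[A] K := IsLocalizedModule.lift A⁰ (IsScalarTower.toAlgHom A S L).toLinearMap g fun x =>
      (Module.End.isUnit_iff _).2 ⟨fun y z h => by
        simp only [Module.algebraMap_end_apply, Algebra.smul_def] at h
        exact mul_left_cancel₀ ((map_ne_zero_iff _ hinjA).2 (nonZeroDivisors.coe_ne_zero x)) h,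
        fun y => ⟨(algebraMap A K x)⁻¹ * y, by
          simp only [Module.algebraMap_end_apply, Algebra.smul_def]
          rw [← mul_assoc, mul_inv_cancel₀ ((map_ne_zero_iff _ hinjA).2 (nonZeroDivisors.coe_ne_zero x)), one_mul]⟩⟩
    let gK : L →ₗ[K] K := gL.extendScalarsOfIsLocalization A⁰ K
    obtain ⟨z, hz⟩ := ((Algebra.traceForm K L).toDual (traceForm_nondegenerate K L)).surjective gK
    have hzs : ∀ s : S, algebraMap A K (f s) = Algebra.trace K L (z * algebraMap S L s) := fun s => by
      rw [← Algebra.traceForm_apply (R := K) (S := L), ← LinearMap.BilinForm.toDual_def (b := traceForm_nondegenerate K L), hz]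
      show g s = gL ((IsScalarTower.toAlgHom A S L).toLinearMap s)
      rw [IsLocalizedModule.lift_apply]
    have hzd : z ∈ FractionalIdeal.dual A K (1 : FractionalIdeal S⁰ L) := (hdual z).2 fun s => ⟨f s, hzs s⟩
    obtain ⟨j, hj⟩ := hcz z hzd
    have hjJ : j ∈ J := fun s => ⟨f s, by rw [hzs, hj, mul_div_cancel_left₀ _ hcL]⟩
    refine ⟨⟨j, hjJ⟩, LinearMap.ext fun s => hinjA ?_⟩
    rw [hΦv, hzs]
    show Algebra.trace K L (algebraMap S L j / algebraMap S L c * _) = _
    rw [hj, mul_div_cancel_left₀ _ hcL]
  -- it corresponds to `J` modulo `c`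
  let N := LinearMap.range ((trPair (S := S) A).restrictScalars k)
  let Ψ := N.mkQ.comp Φ
  have hΨ : Function.Surjective Ψ := N.mkQ_surjective.comp hsurj
  have hcJ : Ideal.span {c} ≤ J := hJD ▸ (by first | exact Ideal.mul_le_left | exact Ideal.mul_le_right)
  have hker : ∀ j : J, Ψ j = 0 ↔ (j : S) ∈ Ideal.span {c} := fun j => by
    show N.mkQ (Φ j) = 0 ↔ _
    rw [Submodule.mkQ_apply, Submodule.Quotient.mk_eq_zero, Ideal.mem_span_singleton']
    constructor
    · rintro ⟨t, ht⟩
      refine ⟨t, ?_⟩
      have key : ∀ s : S, Algebra.trace K L ((algebraMap S L j / algebraMap S L c - algebraMap S L t) *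
          algebraMap S L s) = 0 := fun s => by
        rw [sub_mul, map_sub, ← hΦv, ← ht, LinearMap.restrictScalars_apply, trPair_apply,
          Algebra.algebraMap_intTrace (A := A) (K := K) (L := L), map_mul, sub_self]
      have h0 : algebraMap S L j / algebraMap S L c - algebraMap S L t = 0 := by
        refine (traceForm_nondegenerate K L).1 _ fun w => ?_
        obtain ⟨⟨x, d⟩, hxd⟩ := IsLocalizedModule.surj A⁰ (IsScalarTower.toAlgHom A S L).toLinearMap w
        have h1 : (d : A) • Algebra.trace K L ((algebraMap S L j / algebraMap S L c - algebraMap S L t) * w) = 0 := by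
          rw [← LinearMap.map_smul_of_tower, ← mul_smul_comm]
          show Algebra.trace K L (_ * (d • w)) = 0
          rw [hxd]
          exact key x
        rw [Algebra.smul_def] at h1
        exact (mul_eq_zero.1 h1).resolve_left ((map_ne_zero_iff _ hinjA).2 (nonZeroDivisors.coe_ne_zero d))
      refine IsFractionRing.injective S L ?_
      rw [map_mul, ← sub_eq_zero.1 h0, div_mul_cancel₀ _ hcL]
    · rintro ⟨t, ht⟩
      refine ⟨t, LinearMap.ext fun s => hinjA ?_⟩
      rw [LinearMap.restrictScalars_apply, trPair_apply, hΦv,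
        Algebra.algebraMap_intTrace (A := A) (K := K) (L := L), ← ht, map_mul (algebraMap S L), map_mul (algebraMap S L),
        mul_div_cancel_right₀ _ hcL]
  let e1 := Ψ.quotKerEquivOfSurjective hΨ
  let g : J →ₗ[k] S ⧸ Ideal.span {c} :=
    (Ideal.Quotient.mkₐ k (Ideal.span {c})).toLinearMap.comp ((J : Submodule S S).subtype.restrictScalars k)
  have hgker : LinearMap.ker g = LinearMap.ker Ψ := Submodule.ext fun j => by
    rw [LinearMap.mem_ker, LinearMap.mem_ker, hker]
    exact Ideal.Quotient.eq_zero_iff_mem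
  let q : (S ⧸ Ideal.span {c}) →ₗ[k] S ⧸ J := (Ideal.Quotient.factorₐ k hcJ).toLinearMap
  have hrange : LinearMap.range g = LinearMap.ker q := Submodule.ext fun w => by
    obtain ⟨w, rfl⟩ := Ideal.Quotient.mk_surjective w
    show _ ↔ Ideal.Quotient.mk J w = 0
    rw [Ideal.Quotient.eq_zero_iff_mem]
    constructor
    · rintro ⟨j, hj⟩
      have h1 : (j : S) - w ∈ Ideal.span {c} := Ideal.Quotient.eq.1 hj
      exact (Submodule.sub_mem_iff_right _ j.2).1 (hcJ h1)
    · exact fun hw => ⟨⟨w, hw⟩, rfl⟩
  have hJ0 : J ≠ ⊥ := fun h => hc0 (by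
    have h1 := hcJ (Ideal.mem_span_singleton_self c)
    rwa [h, Ideal.mem_bot] at h1)
  have hspan0 : Ideal.span {c} ≠ ⊥ := by simpa using hc0
  obtain ⟨hf1, hr1⟩ := finrank_quot k hfin hspan0
  obtain ⟨hf2, hr2⟩ := finrank_quot k hfin hJ0
  haveI := hf1
  haveI := hf2
  rw [← e1.finrank_eq, ← hgker, g.quotKerEquivRange.finrank_eq, hrange]
  have h2 := q.finrank_range_add_finrank_ker
  rw [LinearMap.range_eq_top.2 (Ideal.Quotient.factor_surjective hcJ), finrank_top, hr1, hr2] at h2
  have h3 : idealDeg k (Ideal.span {c}) = idealDeg k J + idealDeg k (differentIdeal A S) := by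
    rw [← hJD, idealDeg_mul k hJ0 hD]
  omega

end Trace

end Groth.Agent.HurwNorm
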