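import Groth.Agent.HurwNorm.Sheaf
import Groth.Agent.S7388
import Groth.Agent.PnCoh.Chow.Proper

/-!
# The Hurwitz inequality for normal curves
-/

noncomputable section

set_option autoImplicit false
set_option linter.style.haveILetI false
set_option linter.unusedSectionVars false
set_option backward.isDefEq.respectTransparency false
set_option backward.isDefEq.respectTransparency.types false
set_option maxHeartbeats 1000000

universe u

open CategoryTheory CategoryTheory.Limits AlgebraicGeometry TopologicalSpace Opposite UniqueFactorizationMonoid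

namespace Groth.Agent.HurwNorm

open Groth.Agent
open Groth.Agent.CurveCohLib.Polar (eta_mem)

attribute [local instance] Curv2.resAlgebra

variable (k : Type u) [Field k] {X Y : Scheme.{u}} [X.Over (Spec (CommRingCat.of k))]
  [Y.Over (Spec (CommRingCat.of k))] [IsIntegral X] [IsIntegral Y]
  [IsProper (X ↘ Spec (CommRingCat.of k))] [IsProper (Y ↘ Spec (CommRingCat.of k))]
  (hdX : topologicalKrullDim X = 1) (hdY : topologicalKrullDim Y = 1)
  (hnX : ∀ x : X, IsIntegrallyClosed (X.presheaf.stalk x)) (hnY : ∀ y : Y, IsIntegrallyClosed (Y.presheaf.stalk y))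
  {f : X ⟶ Y} [IsFinite f] (hf : f ≫ (Y ↘ Spec (CommRingCat.of k)) = X ↘ Spec (CommRingCat.of k))
  (e : f (genericPoint X) = genericPoint Y)
  (hsep : letI := (PaLe.ffHom e).toAlgebra; Algebra.IsSeparable Y.functionField X.functionField)

/-- The ramification index at a point. -/
def eIdx (f : X ⟶ Y) (x : X) : ℕ :=
  letI := (f.stalkMap x).hom.toAlgebra
  Ideal.ramificationIdx (IsLocalRing.maximalIdeal (X.presheaf.stalk x)) (Y.presheaf.stalk (f x))

/-- Tameness at a point. -/
def IsTame (f : X ⟶ Y) (x : X) : Prop :=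
  letI := (f.residueFieldMap x).hom.toAlgebra
  Algebra.IsSeparable (Y.residueField (f x)) (X.residueField x) ∧ (eIdx f x : Y.residueField (f x)) ≠ 0

include k hdX hdY e in
theorem ne_generic {x : X} (hx : IsClosed ({x} : Set X)) : f x ≠ genericPoint Y := fun h => by
  have h1 := f.isClosedMap _ hx
  rw [Set.image_singleton, h] at h1
  exact CurveEmbed.genericPoint_not_closed hdY h1

open Classical in
include k hdX hdY hnX hnY hf e hsep in
/-- The different over an affine open: its degree is the dimension of the sections of the cokernel, and the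
multiplicity at a point compares with the ramification index. -/
theorem different_facts {W : Y.Opens} (hW : IsAffineOpen W) (hηW : genericPoint Y ∈ W) :
    letI : Module k Γ(QQ e hnY, W) := Module.compHom _ (kHom k Y W)
    letI := H23.CoverPush.alg f W
    letI := kAlg k X (f ⁻¹ᵁ W)
    ∃ (_ : IsDedekindDomain Γ(X, f ⁻¹ᵁ W)) (D : Ideal Γ(X, f ⁻¹ᵁ W)), D ≠ ⊥ ∧
      idealDeg k D = Module.finrank k Γ(QQ e hnY, W) ∧
      (∀ P : Ideal Γ(X, f ⁻¹ᵁ W), P.IsMaximal → 0 < Module.finrank k (Γ(X, f ⁻¹ᵁ W) ⧸ P)) ∧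
      (∀ P : Ideal Γ(X, f ⁻¹ᵁ W), P.IsMaximal → P ∣ D → ∃ x : X, ∃ hx : f x ∈ W, IsClosed ({x} : Set X) ∧
        ((hW.preimage f).primeIdealOf ⟨x, hx⟩).asIdeal = P) ∧
      ∀ (x : X) (hx : f x ∈ W), IsClosed ({x} : Set X) →
        ((hW.preimage f).primeIdealOf ⟨x, hx⟩).asIdeal.IsMaximal ∧
        Module.finrank k (Γ(X, f ⁻¹ᵁ W) ⧸ ((hW.preimage f).primeIdealOf ⟨x, hx⟩).asIdeal) =
          Module.finrank k (X.residueField x) ∧
        0 < eIdx f x ∧
        eIdx f x - 1 ≤ (normalizedFactors D).count ((hW.preimage f).primeIdealOf ⟨x, hx⟩).asIdeal ∧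
        (eIdx f x ≤ (normalizedFactors D).count ((hW.preimage f).primeIdealOf ⟨x, hx⟩).asIdeal ↔ ¬ IsTame f x) := by
  letI : Module k Γ(QQ e hnY, W) := Module.compHom _ (kHom k Y W)
  letI := H23.CoverPush.alg f W
  letI := kAlg k Y W
  letI := kAlg k X (f ⁻¹ᵁ W)
  obtain ⟨_, _, _, _, _, _, _, hfin⟩ := facts k e hf hdX.le hdY.le hnX hnY hW hηW
  letI := FractionRing.liftAlgebra Γ(Y, W) (FractionRing Γ(X, f ⁻¹ᵁ W))
  haveI := isSeparable_fractionRing e hsep hW hηW
  obtain ⟨ε⟩ := exists_quotEquiv k e hnY hf hdX hdY hnX hsep hW hηW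
  have hD : differentIdeal Γ(Y, W) Γ(X, f ⁻¹ᵁ W) ≠ ⊥ := differentIdeal_ne_bot
  refine ⟨inferInstance, differentIdeal Γ(Y, W) Γ(X, f ⁻¹ᵁ W), hD,
    (finrank_coker_trPair k hfin Γ(Y, W)).symm.trans ε.finrank_eq, fun P hP => ?_, fun P hP hPD => ?_,
    fun x hx hxc => ?_⟩
  · haveI := hfin P hP
    exact Module.finrank_pos
  · let V := f ⁻¹ᵁ W
    have hV : IsAffineOpen V := hW.preimage f
    let x : X := hV.fromSpec ⟨P, hP.isPrime⟩
    have hxV : x ∈ V := hV.range_fromSpec.le ⟨_, rfl⟩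
    have hprime : (hV.primeIdealOf ⟨x, hxV⟩) = ⟨P, hP.isPrime⟩ :=
      hV.fromSpec.isOpenEmbedding.injective (hV.fromSpec_primeIdealOf ⟨x, hxV⟩)
    refine ⟨x, hxV, ?_, congrArg PrimeSpectrum.asIdeal hprime⟩
    by_contra hc
    haveI := CurveCohLib.isNoetherian_of_proper (k := k) (X := X)
    have hxg := CurveCohLib.eq_genericPoint_of_not_isClosed hdX hc
    have hP0 : P ≠ ⊥ := fun h => hD (by rwa [h, ← Ideal.zero_eq_bot, zero_dvd_iff, Ideal.zero_eq_bot] at hPD)
    have h2 : x ⤳ hV.fromSpec ⟨⊥, Ideal.isPrime_bot⟩ := hxg ▸ (genericPoint_spec X).specializes trivial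
    have h3 := (hV.fromSpec.isOpenEmbedding.isInducing.specializes_iff).1 h2
    exact hP0 (le_bot_iff.1 ((PrimeSpectrum.le_iff_specializes _ _).2 h3))
  · obtain ⟨hPm, hpm, hPp, hP0, hp0, hdeg, he, htame⟩ :=
      local_invariants k hW hηW hxc hx (ne_generic k hdX hdY e hxc)
    haveI := hPm
    haveI := hpm
    haveI := hPp
    have he0 := Ideal.ramificationIdx_pos ((hW.preimage f).primeIdealOf ⟨x, hx⟩).asIdeal Γ(Y, W)
    have hei : Ideal.ramificationIdx ((hW.preimage f).primeIdealOf ⟨x, hx⟩).asIdeal Γ(Y, W) = eIdx f x := he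
    have hmap : (hW.primeIdealOf ⟨f x, hx⟩).asIdeal.map (algebraMap Γ(Y, W) Γ(X, f ⁻¹ᵁ W)) ≠ ⊥ :=
      Ideal.map_ne_bot_of_ne_bot hp0
    rw [← hei]
    refine ⟨hPm, hdeg, he0, (le_count_iff hD _ hP0 _).2 ?_, (le_count_iff hD _ hP0 _).trans ?_⟩
    · refine pow_sub_one_dvd_differentIdeal Γ(Y, W) _ _ hp0 ((le_count_iff hmap _ hP0 _).1 ?_)
      rw [Ideal.IsDedekindDomain.ramificationIdx_eq_normalizedFactors_count
        (hW.primeIdealOf ⟨f x, hx⟩).asIdeal _ hmap]
    · rw [pow_dvd_differentIdeal_iff Γ(Y, W) Γ(X, f ⁻¹ᵁ W) _ hp0, htame, IsTame, hei]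

include k hdX hdY hnX hnY hf e hsep in
/-- Points over the complement of the cokernel are unramified. -/
theorem unramified_outside {x : X} (hxc : IsClosed ({x} : Set X)) (hx : f x ∉ CohB1.support (QQ e hnY)) :
    eIdx f x = 1 ∧ IsTame f x := by
  classical
  haveI := CurveCohLib.isNoetherian_of_proper (k := k) (X := Y)
  have hQ := isCoh_QQ k e hnY (f := f)
  let O : Y.Opens := ⟨(CohB1.support (QQ e hnY))ᶜ, (QCoh.isClosed_support_of_isFT hQ.1 hQ.2).isOpen_compl⟩
  obtain ⟨_, ⟨W, hW, rfl⟩, hxW, hWO⟩ := Y.isBasis_affineOpens.exists_subset_of_mem_open (show f x ∈ O from hx) O.2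
  letI : Module k Γ(QQ e hnY, W) := Module.compHom _ (kHom k Y W)
  letI := kAlg k X (f ⁻¹ᵁ W)
  obtain ⟨_, D, hD, hdeg, hpos, -, hloc⟩ := different_facts k hdX hdY hnX hnY hf e hsep hW (eta_mem hxW)
  haveI : Subsingleton Γ(QQ e hnY, W) := subsingleton_of_forall_eq 0 fun s =>
    ZClosLib.section_ext (QQ e hnY) _ _ fun z hz =>
      (CurveCohLib.germ_eq_zero_of_notMem_support s hz (hWO hz)).trans (map_zero _).symm
  rw [Module.finrank_zero_of_subsingleton] at hdeg
  obtain ⟨hPm, -, he0, hle, hiff⟩ := hloc x hxW hxc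
  have hc : (normalizedFactors D).count ((hW.preimage f).primeIdealOf ⟨x, hxW⟩).asIdeal = 0 := by
    rw [Multiset.count_eq_zero]
    intro hmem
    rw [idealDeg, Multiset.sum_eq_zero_iff] at hdeg
    have h1 := hdeg _ (Multiset.mem_map_of_mem _ hmem)
    have h2 := hpos _ hPm
    omega
  rw [hc] at hle hiff
  refine ⟨by omega, ?_⟩
  by_contra h
  have := hiff.2 h
  omega

open Classical in
include k hdX hdY hnX hnY hf e hsep in
/-- The Hurwitz inequality with the criterion for equality. -/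
theorem hurwitz (hprojY : ∃ (N : ℕ) (i : Y ⟶ CohB1.ProjSpace N k), IsClosedImmersion i ∧
      i ≫ CohB1.ProjSpace.toSpec N k = Y ↘ (Spec (CommRingCat.of k))) :
    letI n : ℕ := letI := (PaLe.ffHom e).toAlgebra; Module.finrank Y.functionField X.functionField
    letI S : ℤ := ∑ᶠ x : X, if IsClosed ({x} : Set X) then
      ((eIdx f x - 1 : ℕ) : ℤ) * (Module.finrank k (X.residueField x) : ℤ) else 0
    (n : ℤ) * (2 * ((1 - Curv2.euler k Y (Coh.structureModule Y)) - 1)) + S ≤
        2 * ((1 - Curv2.euler k X (Coh.structureModule X)) - 1) ∧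
      ((n : ℤ) * (2 * ((1 - Curv2.euler k Y (Coh.structureModule Y)) - 1)) + S =
          2 * ((1 - Curv2.euler k X (Coh.structureModule X)) - 1) ↔
        ∀ x : X, IsClosed ({x} : Set X) → IsTame f x) := by
  haveI := CurveCohLib.isNoetherian_of_proper (k := k) (X := Y)
  haveI := CurveCohLib.isNoetherian_of_proper (k := k) (X := X)
  have hQ := isCoh_QQ k e hnY (f := f)
  have hcl := isClosed_support_QQ k e hnY hdX hdY hsep
  have hfinQ := CurveCohLib.finite_of_closedPoints (QCoh.isClosed_support_of_isFT hQ.1 hQ.2) hcl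
  obtain ⟨N, i, hi, -⟩ := hprojY
  haveI := hi
  obtain ⟨W, hW, hEW⟩ := S7388.result (CohB1.polyGrading N k) i _ (hfinQ.union (Set.finite_singleton (genericPoint Y)))
  have hsupp : CohB1.support (QQ e hnY) ⊆ W := fun y hy => hEW (Or.inl hy)
  have hηW : genericPoint Y ∈ W := hEW (Or.inr rfl)
  letI : Module k Γ(QQ e hnY, W) := Module.compHom _ (kHom k Y W)
  letI := kAlg k X (f ⁻¹ᵁ W)
  obtain ⟨_, D, hD, hdeg, hpos, hover, hloc⟩ := different_facts k hdX hdY hnX hnY hf e hsep hW hηW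
  obtain ⟨h0⟩ := exists_h0_res k e hnY hdX hdY hsep hsupp
  rw [← h0.finrank_eq] at hdeg
  have hform := euler_formula k e hnY hf hdX hdY hsep
  -- the points over the support
  have hXc : (f ⁻¹' CohB1.support (QQ e hnY)).Finite :=
    hfinQ.preimage' fun y _ => f.finite_preimage_singleton y
  have hclosed : ∀ x, f x ∈ CohB1.support (QQ e hnY) → IsClosed ({x} : Set X) := fun x hx => by
    by_contra hc
    have := hcl _ hx
    rw [CurveCohLib.eq_genericPoint_of_not_isClosed hdX hc, e] at this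
    exact CurveEmbed.genericPoint_not_closed hdY this
  let T := hXc.toFinset
  have hmem : ∀ x, x ∈ T ↔ f x ∈ CohB1.support (QQ e hnY) := fun x => hXc.mem_toFinset
  let P : T → Ideal Γ(X, f ⁻¹ᵁ W) := fun x =>
    ((hW.preimage f).primeIdealOf ⟨x.1, hsupp ((hmem x.1).1 x.2)⟩).asIdeal
  have hPinj : Function.Injective P := fun a b h => by
    have h1 := congrArg (hW.preimage f).fromSpec (PrimeSpectrum.ext h)
    rw [IsAffineOpen.fromSpec_primeIdealOf, IsAffineOpen.fromSpec_primeIdealOf] at h1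
    exact Subtype.ext h1
  have hcov : ∀ Q : Ideal Γ(X, f ⁻¹ᵁ W), Q.IsMaximal → Q ∣ D → Q ∈ Finset.univ.image P := fun Q hQm hQD => by
    obtain ⟨x, hxW, hxc, rfl⟩ := hover Q hQm hQD
    by_cases hxs : f x ∈ CohB1.support (QQ e hnY)
    · exact Finset.mem_image.2 ⟨⟨x, (hmem x).2 hxs⟩, Finset.mem_univ _, rfl⟩
    · exfalso
      obtain ⟨h1, h2⟩ := unramified_outside k hdX hdY hnX hnY hf e hsep hxc hxs
      obtain ⟨hPm, -, -, -, hiff⟩ := hloc x hxW hxc
      refine hiff.1 ?_ h2
      rw [h1]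
      refine (le_count_iff hD _ ?_ 1).2 (by rwa [pow_one])
      rintro h
      rw [h, ← Ideal.zero_eq_bot, zero_dvd_iff, Ideal.zero_eq_bot] at hQD
      exact hD hQD
  rw [idealDeg_eq_sum k hD _ hcov, Finset.sum_image fun a _ b _ h => hPinj h] at hdeg
  -- the sum of the ramification indices
  have hS : (∑ᶠ x : X, if IsClosed ({x} : Set X) then
      ((eIdx f x - 1 : ℕ) : ℤ) * (Module.finrank k (X.residueField x) : ℤ) else 0) =
      ((∑ x : T, (eIdx f x.1 - 1) * Module.finrank k (X.residueField x.1) : ℕ) : ℤ) := by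
    rw [finsum_eq_sum_of_support_subset _ (s := T) fun x hx => ?_, ← Finset.sum_coe_sort T, Nat.cast_sum]
    · exact Finset.sum_congr rfl fun x _ => by rw [if_pos (hclosed _ ((hmem x.1).1 x.2)), Nat.cast_mul]
    · rw [Function.mem_support] at hx
      rw [Finset.mem_coe, hmem]
      by_contra hxs
      by_cases hxc : IsClosed ({x} : Set X)
      · rw [if_pos hxc, (unramified_outside k hdX hdY hnX hnY hf e hsep hxc hxs).1] at hx
        simp at hx
      · rw [if_neg hxc] at hx
        exact hx rfl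
  have hterm : ∀ x : T, (eIdx f x.1 - 1) * Module.finrank k (X.residueField x.1) ≤
      (normalizedFactors D).count (P x) * Module.finrank k (Γ(X, f ⁻¹ᵁ W) ⧸ P x) ∧
      ((eIdx f x.1 - 1) * Module.finrank k (X.residueField x.1) =
        (normalizedFactors D).count (P x) * Module.finrank k (Γ(X, f ⁻¹ᵁ W) ⧸ P x) ↔ IsTame f x.1) := fun x => by
    obtain ⟨hPm, hd, he0, hle, hiff⟩ := hloc x.1 (hsupp ((hmem x.1).1 x.2)) (hclosed _ ((hmem x.1).1 x.2))
    change eIdx f x.1 - 1 ≤ (normalizedFactors D).count (P x) at hle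
    change eIdx f x.1 ≤ (normalizedFactors D).count (P x) ↔ _ at hiff
    have hp := hpos _ hPm
    rw [hd] at hp
    show _ ≤ _ * Module.finrank k (_ ⧸ ((hW.preimage f).primeIdealOf ⟨x.1, _⟩).asIdeal) ∧ _
    rw [hd]
    refine ⟨Nat.mul_le_mul_right _ hle, ?_⟩
    rw [Nat.mul_left_inj hp.ne']
    constructor
    · intro h
      by_contra hn
      have := hiff.2 hn
      omega
    · intro ht
      have : ¬ eIdx f x.1 ≤ (normalizedFactors D).count (P x) := fun h => hiff.1 h ht
      omega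
  rw [hS]
  have hsum := Finset.sum_le_sum (s := (Finset.univ : Finset T)) fun x _ => (hterm x).1
  have heq := Finset.sum_eq_sum_iff_of_le (s := (Finset.univ : Finset T)) fun x _ => (hterm x).1
  rw [hdeg] at hsum heq
  refine ⟨?_, ?_⟩
  · zify at hsum
    push_cast at hsum ⊢
    linarith
  · refine Iff.trans (b := (∑ x : T, (eIdx f x.1 - 1) * Module.finrank k (X.residueField x.1)) =
      Module.finrank k (Coh.HH Y (QQ e hnY) 0)) ⟨fun h => ?_, fun h => ?_⟩ (heq.trans ⟨fun h x hxc => ?_, fun h x _ => ?_⟩)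
    · zify
      push_cast at h ⊢
      linarith
    · rw [h]
      linarith
    · by_cases hxs : f x ∈ CohB1.support (QQ e hnY)
      · exact (hterm ⟨x, (hmem x).2 hxs⟩).2.1 (h _ (Finset.mem_univ _))
      · exact (unramified_outside k hdX hdY hnX hnY hf e hsep hxc hxs).2
    · exact (hterm x).2.2 (h x.1 (hclosed _ ((hmem x.1).1 x.2)))

end Groth.Agent.HurwNorm
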