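import Groth.Agent.PaLe.Trace
import Groth.Agent.RefX.QCoh

/-!
# The trace pairing of the direct image of the structure sheaf along a finite map of curves
-/

noncomputable section

set_option autoImplicit false
set_option linter.style.haveILetI false
set_option linter.unusedSectionVars false
set_option backward.isDefEq.respectTransparency false
set_option backward.isDefEq.respectTransparency.types false
set_option maxHeartbeats 1000000

universe u

open CategoryTheory CategoryTheory.Limits AlgebraicGeometry TopologicalSpace Opposite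

namespace Groth.Agent.HurwNorm

open Groth.Agent

variable {X Y : Scheme.{u}} [IsIntegral X] [IsIntegral Y] {f : X ⟶ Y} [IsFinite f]
  (e : f (genericPoint X) = genericPoint Y) (hn : ∀ y : Y, IsIntegrallyClosed (Y.presheaf.stalk y))

/-- The direct image of the structure sheaf. -/
abbrev EE (f : X ⟶ Y) : Y.Modules := (Scheme.Modules.pushforward f).obj (Coh.structureModule X)

/-- A section of the direct image as a function. -/
abbrev fn {U : Y.Opens} (a : Γ(EE f, U)) : Γ(X, f ⁻¹ᵁ U) := a

theorem isIntFun_one : PaLe.IsIntFun e (1 : X.functionField) := fun y =>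
  RingHom.isIntegralElem_one _

/-- The trace pairing on sections. -/
def pr {U : Y.Opens} (a b : Γ(EE f, U)) : Γ(Coh.structureModule Y, U) :=
  (PaLe.trHom e hn 1 (isIntFun_one e)).app U (show Γ(EE f, U) from fn a * fn b)

theorem pr_res {U V : Y.Opens} (h : V ≤ U) (a b : Γ(EE f, U)) :
    AModX.res (Coh.structureModule Y) h (pr e hn a b) = pr e hn (AModX.res (EE f) h a) (AModX.res (EE f) h b) := by
  refine (QCoh.map_app_comm (PaLe.trHom e hn 1 (isIntFun_one e)) (homOfLE h) _).symm.trans ?_
  refine congrArg ((PaLe.trHom e hn 1 (isIntFun_one e)).app V) ?_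
  exact map_mul (X.presheaf.map (homOfLE (f.preimage_mono h)).op).hom (fn a) (fn b)

theorem pr_add_right {U : Y.Opens} (a b b' : Γ(EE f, U)) :
    pr e hn a (b + b') = pr e hn a b + pr e hn a b' := by
  show PaLe.trSec e hn 1 (isIntFun_one e) U (fn a * (fn b + fn b')) = _
  rw [mul_add, PaLe.trSec_add]
  rfl

theorem pr_add_left {U : Y.Opens} (a a' b : Γ(EE f, U)) :
    pr e hn (a + a') b = pr e hn a b + pr e hn a' b := by
  show PaLe.trSec e hn 1 (isIntFun_one e) U ((fn a + fn a') * fn b) = _
  rw [add_mul, PaLe.trSec_add]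
  rfl

theorem pr_smul_right {U : Y.Opens} (r : Γ(Y, U)) (a b : Γ(EE f, U)) :
    pr e hn a (r • b) = r • pr e hn a b := by
  show PaLe.trSec e hn 1 (isIntFun_one e) U (fn a * (f.app U r * fn b)) = _
  rw [mul_left_comm, PaLe.trSec_mul]
  rfl

theorem pr_smul_left {U : Y.Opens} (r : Γ(Y, U)) (a b : Γ(EE f, U)) :
    pr e hn (r • a) b = r • pr e hn a b := by
  show PaLe.trSec e hn 1 (isIntFun_one e) U ((f.app U r * fn a) * fn b) = _
  rw [mul_assoc, PaLe.trSec_mul]
  rfl

/-- The value of `pr a -` at a germ, read on the intersection. -/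
def prGerm {W : Y.Opens} (a : Γ(EE f, W)) {U : Y.Opens} (b : Γ(EE f, U)) (y : Y) (hW : y ∈ W) (hU : y ∈ U) :
    (Coh.structureModule Y).presheaf.stalk y :=
  (Coh.structureModule Y).presheaf.germ (W ⊓ U) y ⟨hW, hU⟩
    (pr e hn (AModX.res (EE f) inf_le_left a) (AModX.res (EE f) inf_le_right b))

theorem prGerm_eq {W V U : Y.Opens} (hVW : V ≤ W) (hVU : V ≤ U) (a : Γ(EE f, W)) (b : Γ(EE f, U)) (y : Y)
    (hy : y ∈ V) :
    prGerm e hn a b y (hVW hy) (hVU hy) =
      (Coh.structureModule Y).presheaf.germ V y hy (pr e hn (AModX.res (EE f) hVW a) (AModX.res (EE f) hVU b)) := by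
  rw [prGerm, ← RefX.germ_res (Coh.structureModule Y) (le_inf hVW hVU) hy, pr_res, AModX.res_res, AModX.res_res]

theorem exists_prStalk {W : Y.Opens} (a : Γ(EE f, W)) (y : Y) (hW : y ∈ W) (v : (EE f).presheaf.stalk y) :
    ∃ r, ∀ (U : Y.Opens) (hU : y ∈ U) (b : Γ(EE f, U)),
      (EE f).presheaf.germ U y hU b = v → prGerm e hn a b y hW hU = r := by
  obtain ⟨U₀, hU₀, b₀, rfl⟩ := TopCat.Presheaf.exists_germ_eq (EE f).presheaf v
  refine ⟨prGerm e hn a b₀ y hW hU₀, fun U hU b hb => ?_⟩
  obtain ⟨V, hyV, i, j, hij⟩ := TopCat.Presheaf.germ_eq (EE f).presheaf y hU hU₀ b b₀ hb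
  have hV : W ⊓ V ≤ W := inf_le_left
  have hy : y ∈ W ⊓ V := ⟨hW, hyV⟩
  rw [prGerm_eq e hn hV (inf_le_right.trans i.le) a b y hy, prGerm_eq e hn hV (inf_le_right.trans j.le) a b₀ y hy]
  congr 2
  rw [← AModX.res_res i.le (inf_le_right : W ⊓ V ≤ V), ← AModX.res_res j.le (inf_le_right : W ⊓ V ≤ V)]
  exact congrArg _ hij

/-- The linear form `tr (a -)` on the stalk. -/
def prStalk {W : Y.Opens} (a : Γ(EE f, W)) (y : Y) (hW : y ∈ W) : RefHull.StalkHom (EE f) (Coh.structureModule Y) y where
  toFun v := (exists_prStalk e hn a y hW v).choose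
  map_add' v w := by
    obtain ⟨U, hU, b, rfl⟩ := TopCat.Presheaf.exists_germ_eq (EE f).presheaf v
    obtain ⟨U', hU', b', rfl⟩ := TopCat.Presheaf.exists_germ_eq (EE f).presheaf w
    let V := W ⊓ (U ⊓ U')
    have hy : y ∈ V := ⟨hW, hU, hU'⟩
    let c : Γ(EE f, V) := AModX.res (EE f) (inf_le_right.trans inf_le_left) b
    let c' : Γ(EE f, V) := AModX.res (EE f) (inf_le_right.trans inf_le_right) b'
    have hs : (EE f).presheaf.germ V y hy (c + c') = (EE f).presheaf.germ U y hU b + (EE f).presheaf.germ U' y hU' b' := by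
      rw [map_add, RefX.germ_res, RefX.germ_res]
    rw [← (exists_prStalk e hn a y hW _).choose_spec V hy (c + c') hs,
      ← (exists_prStalk e hn a y hW _).choose_spec V hy c (RefX.germ_res _ _ _ _),
      ← (exists_prStalk e hn a y hW _).choose_spec V hy c' (RefX.germ_res _ _ _ _),
      prGerm_eq e hn inf_le_left le_rfl a (c + c') y hy, prGerm_eq e hn inf_le_left le_rfl a c y hy,
      prGerm_eq e hn inf_le_left le_rfl a c' y hy, ← map_add, ← pr_add_right, ← map_add]
  map_smul' r v := by
    obtain ⟨U₀, hU₀, r₀, rfl⟩ := Y.presheaf.exists_germ_eq (x := y) r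
    obtain ⟨U, hU, b, rfl⟩ := TopCat.Presheaf.exists_germ_eq (EE f).presheaf v
    let V := W ⊓ (U₀ ⊓ U)
    have hy : y ∈ V := ⟨hW, hU₀, hU⟩
    let s : Γ(Y, V) := AModX.resR (inf_le_right.trans inf_le_left) r₀
    let c : Γ(EE f, V) := AModX.res (EE f) (inf_le_right.trans inf_le_right) b
    have hs : (EE f).presheaf.germ V y hy (s • c) = Y.presheaf.germ U₀ y hU₀ r₀ • (EE f).presheaf.germ U y hU b := by
      rw [QCoh.germ_smul', RefX.germ_res, RefX.germ_resR]
    rw [← (exists_prStalk e hn a y hW _).choose_spec V hy (s • c) hs, RingHom.id_apply,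
      ← (exists_prStalk e hn a y hW _).choose_spec V hy c (RefX.germ_res _ _ _ _),
      prGerm_eq e hn inf_le_left le_rfl a (s • c) y hy, prGerm_eq e hn inf_le_left le_rfl a c y hy,
      AModX.res_smul, pr_smul_right, QCoh.germ_smul', AModX.resR_self, RefX.germ_resR]

theorem prStalk_germ {W V : Y.Opens} (h : V ≤ W) (a : Γ(EE f, W)) {y : Y} (hy : y ∈ V) (b : Γ(EE f, V)) :
    prStalk e hn a y (h hy) ((EE f).presheaf.germ V y hy b) =
      (Coh.structureModule Y).presheaf.germ V y hy (pr e hn (AModX.res (EE f) h a) b) := by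
  refine ((exists_prStalk e hn a y (h hy) _).choose_spec V hy b rfl).symm.trans ?_
  rw [prGerm_eq e hn h le_rfl a b y hy, AModX.res_self]

theorem prStalk_ext {W : Y.Opens} {y : Y} (hy : y ∈ W) (φ : RefHull.StalkHom (EE f) (Coh.structureModule Y) y)
    (a : Γ(EE f, W))
    (h : ∀ (V : Y.Opens) (hV : V ≤ W) (hyV : y ∈ V) (b : Γ(EE f, V)),
      φ ((EE f).presheaf.germ V y hyV b) =
        (Coh.structureModule Y).presheaf.germ V y hyV (pr e hn (AModX.res (EE f) hV a) b)) :
    φ = prStalk e hn a y hy := by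
  refine LinearMap.ext fun v => ?_
  obtain ⟨U, hU, b, rfl⟩ := TopCat.Presheaf.exists_germ_eq (EE f).presheaf v
  have hv : (EE f).presheaf.germ (W ⊓ U) y ⟨hy, hU⟩ (AModX.res (EE f) inf_le_right b) =
      (EE f).presheaf.germ U y hU b := RefX.germ_res _ _ _ _
  rw [← hv, h (W ⊓ U) inf_le_left ⟨hy, hU⟩, prStalk_germ e hn inf_le_left a]

/-- The trace form as a map into the dual. -/
def prMap : EE f ⟶ RefHull.homSh (EE f) (Coh.structureModule Y) :=
  ⟨PresheafOfModules.homMk
    { app := fun W => AddCommGrpCat.ofHom (AddMonoidHom.mk'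
        (fun a => (⟨fun y => prStalk e hn a y.1 y.2, fun V i b y =>
          ⟨V, y.2, 𝟙 V, pr e hn (AModX.res (EE f) i.le a) b, fun z => by
            exact (prStalk_germ e hn i.le a z.2 b)⟩⟩ :
            Γ(RefHull.homSh (EE f) (Coh.structureModule Y), W.unop)))
        (fun a a' => RefX.sect_ext fun y => by
          refine (prStalk_ext e hn y.2 _ _ fun V hV hyV b => ?_).symm
          show prStalk e hn a y.1 y.2 _ + prStalk e hn a' y.1 y.2 _ = _
          rw [prStalk_germ e hn hV a hyV b, prStalk_germ e hn hV a' hyV b, ← map_add, ← pr_add_left, ← map_add]))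
      naturality := fun {W W'} i => by
        ext a
        refine RefX.sect_ext fun y => ?_
        refine (prStalk_ext e hn y.2 _ _ fun V hV hyV b => ?_).symm
        refine Eq.trans ?_ (congrArg (fun t => (Coh.structureModule Y).presheaf.germ V y.1 hyV (pr e hn t b))
          (AModX.res_res i.unop.le hV a).symm)
        exact prStalk_germ e hn (hV.trans i.unop.le) a hyV b }
    (fun W r a => RefX.sect_ext fun y => by
      refine (prStalk_ext e hn y.2 _ _ fun V hV hyV b => ?_).symm
      show Y.presheaf.germ W.unop y.1 y.2 r • prStalk e hn a y.1 y.2 _ = _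
      rw [prStalk_germ e hn hV a hyV b, AModX.res_smul, pr_smul_left, QCoh.germ_smul', RefX.germ_resR])⟩

theorem app_prMap {W : Y.Opens} (a b : Γ(EE f, W)) :
    RefX.app le_rfl ((prMap e hn).app W a) b = pr e hn a b := by
  refine ZClosLib.section_ext (Coh.structureModule Y) _ _ fun y hy => ?_
  rw [RefX.germ_app]
  refine (prStalk_germ e hn le_rfl a hy b).trans ?_
  rw [AModX.res_self]

end Groth.Agent.HurwNorm
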