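import Groth.Agent.HurwNorm.Aff
import Groth.Agent.HurwNorm.Dual
import Groth.Agent.HurwNorm.Pairing
import Groth.Agent.FlatLoc6.SerreNormal
import Groth.Agent.IntNum.Push
import Groth.Agent.IntNum.PushRank
import Groth.Agent.RefX.Reflexive
import Groth.Agent.QCoh.Extension
import Groth.Agent.RGLib.GenericQuotMain

/-!
# The cokernel of the trace pairing as a sheaf
-/

noncomputable section

set_option autoImplicit false
set_option linter.style.haveILetI false
set_option linter.unusedSectionVars false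
set_option backward.isDefEq.respectTransparency false
set_option backward.isDefEq.respectTransparency.types false
set_option maxHeartbeats 1000000

universe u

open CategoryTheory CategoryTheory.Limits AlgebraicGeometry TopologicalSpace Opposite

namespace Groth.Agent.HurwNorm

open Groth.Agent Groth.Agent.CurveBundle
open Groth.Agent.CurveCohLib.Polar (gη_injective eta_mem)

variable (k : Type u) [Field k] {X Y : Scheme.{u}} [X.Over (Spec (CommRingCat.of k))]
  [Y.Over (Spec (CommRingCat.of k))] [IsIntegral X] [IsIntegral Y]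
  [IsProper (X ↘ Spec (CommRingCat.of k))] [IsProper (Y ↘ Spec (CommRingCat.of k))]

include k in
theorem regular_stalk {Z : Scheme.{u}} [Z.Over (Spec (CommRingCat.of k))] [IsIntegral Z]
    [IsProper (Z ↘ Spec (CommRingCat.of k))] (hdim : topologicalKrullDim Z ≤ 1)
    (hn : ∀ z : Z, IsIntegrallyClosed (Z.presheaf.stalk z)) (z : Z) : IsRegularLocalRing (Z.presheaf.stalk z) := by
  haveI := CurveCohLib.isNoetherian_of_proper (k := k) (X := Z)
  haveI := hn z
  refine FlatLoc6.regular_of_normal _ ?_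
  rw [DimFormula.ringKrullDim_stalk]
  exact le_trans ((le_iSup (fun y : Z => ((DimFormula.codim y : ℕ∞) : WithBot ℕ∞)) z).trans
    FibDim.topologicalKrullDim_eq_iSup_codim.ge) hdim

variable {f : X ⟶ Y} [IsFinite f] (e : f (genericPoint X) = genericPoint Y)

include e in
theorem isTorsionFree_stalk_EE (y : Y) :
    Module.IsTorsionFree (Y.presheaf.stalk y) ((EE f).presheaf.stalk y) := by
  refine Module.isTorsionFree_iff_smul_eq_zero.2 fun r m h => ?_
  obtain ⟨V, hyV, a, rfl⟩ := Y.presheaf.exists_germ_eq (x := y) r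
  obtain ⟨V', hyV', b, rfl⟩ := TopCat.Presheaf.exists_germ_eq (EE f).presheaf m
  have hy : y ∈ V ⊓ V' := ⟨hyV, hyV'⟩
  have h0 : (EE f).presheaf.germ (V ⊓ V') y hy
      (AModX.resR (inf_le_left : V ⊓ V' ≤ V) a • AModX.res (EE f) (inf_le_right : V ⊓ V' ≤ V') b) = (EE f).presheaf.germ (V ⊓ V') y hy 0 := by
    rw [QCoh.germ_smul', RefX.germ_resR, RefX.germ_res, h, map_zero]
  obtain ⟨O, hyO, i₁, i₂, h1⟩ := (EE f).presheaf.germ_eq y hy hy _ _ h0
  rw [map_zero] at h1
  have h2 : AModX.resR (i₁.le.trans inf_le_left) a • AModX.res (EE f) (i₁.le.trans inf_le_right) b = 0 := by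
    rw [← AModX.res_res (inf_le_right : V ⊓ V' ≤ V') i₁.le, ← AModX.resR_resR (inf_le_left : V ⊓ V' ≤ V) i₁.le,
      ← AModX.res_smul]
    exact h1
  haveI := nonempty_preimage e (eta_mem hyO)
  rcases mul_eq_zero.1 (show f.app O (AModX.resR (i₁.le.trans inf_le_left) a) *
      fn (AModX.res (EE f) (i₁.le.trans inf_le_right) b) = 0 from h2) with h3 | h3
  · refine Or.inl ?_
    have h4 : AModX.resR (i₁.le.trans inf_le_left) a = 0 := by
      refine gη_injective (eta_mem hyO) ((PaLe.ffHom e).injective ?_)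
      have := congrArg (PaLe.gX e (eta_mem hyO)) h3
      rw [PaLe.gX_app, map_zero] at this
      rw [map_zero, map_zero]
      exact this
    rw [← RefX.germ_resR (i₁.le.trans inf_le_left) hyO a, h4, map_zero]
  · refine Or.inr ?_
    rw [← RefX.germ_res (EE f) (i₁.le.trans inf_le_right) hyO b,
      show AModX.res (EE f) (i₁.le.trans inf_le_right) b = 0 from h3, map_zero]

include k in
theorem isCoh_EE : Coh.IsCoh (EE f) := by
  haveI := CurveCohLib.isNoetherian_of_proper (k := k) (X := Y)
  haveI := CurveCohLib.isNoetherian_of_proper (k := k) (X := X)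
  exact QCoh.isCoh_pushforward_finite f QCoh.isCoh_structureModule'

theorem bijective_toResidue {Z : Scheme.{u}} [IsIntegral Z] {a b : Z} (h : a = b) (hb : b = genericPoint Z) :
    Function.Bijective ((Z.residue a).hom.comp (Z.presheaf.stalkSpecializes (specializes_of_eq h)).hom) := by
  subst h hb
  letI := (CurveBundle.isField_stalk_generic (X := Z)).toField
  have h1 : (Z.presheaf.stalkSpecializes (specializes_of_eq (rfl : genericPoint Z = genericPoint Z))) = 𝟙 _ :=
    TopCat.Presheaf.stalkSpecializes_refl _ _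
  rw [h1]
  exact ⟨RingHom.injective _, IsLocalRing.residue_surjective⟩

variable (hn : ∀ y : Y, IsIntegrallyClosed (Y.presheaf.stalk y))

include k e hn in
theorem isFinLocFreeOfRank_EE (hdX : topologicalKrullDim X = 1) (hdY : topologicalKrullDim Y = 1) :
    FlatMod.IsFinLocFreeOfRank
      (letI := (PaLe.ffHom e).toAlgebra; Module.finrank Y.functionField X.functionField) (EE f) := by
  haveI := CurveCohLib.isNoetherian_of_proper (k := k) (X := Y)
  have hlf : FlatMod.IsFinLocFree (EE f) := by
    refine QCoh.isFinLocFree_iff.2 ⟨QCoh.isCoh_iff_isFP.1 (isCoh_EE k), fun y => ?_⟩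
    haveI := CurveExt.RegularSub.isPrincipalIdealRing_stalk k hdY.le (regular_stalk k hdY.le hn) y
    haveI := isTorsionFree_stalk_EE e y
    haveI := finite_stalk_of_coh (isCoh_EE k (f := f)) y
    exact Module.free_of_finite_type_torsion_free'
  have hone : ∀ z, f z = genericPoint Y → z = genericPoint X := fun z hz => by
    haveI := CurveCohLib.isNoetherian_of_proper (k := k) (X := X)
    refine CurveCohLib.eq_genericPoint_of_not_isClosed hdX fun hc => CurveEmbed.genericPoint_not_closed hdY ?_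
    have h1 := f.isClosedMap _ hc
    rwa [Set.image_singleton, hz] at h1
  have h := isFinLocFreeOfRank_rk hlf
  have hr : rk (EE f) = (letI := (PaLe.ffHom e).toAlgebra; Module.finrank Y.functionField X.functionField) := by
    refine (IntNum.rk_push_structure f f.isClosedMap e hone).trans ?_
    unfold Scheme.Hom.residueDegree
    letI := (PaLe.ffHom e).toAlgebra
    letI := (f.residueFieldMap (genericPoint X)).hom.toAlgebra
    refine (Algebra.finrank_eq_of_equiv_equiv (RingEquiv.ofBijective _ (bijective_toResidue e rfl))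
      (RingEquiv.ofBijective _ (bijective_toResidue (Z := X) rfl rfl)) (RingHom.ext fun r => ?_)).symm
    show f.residueFieldMap _ (Y.residue _ _) = X.residue _ (X.presheaf.stalkSpecializes _ (PaLe.ffHom e r))
    rw [TopCat.Presheaf.stalkSpecializes_refl]
    exact congr($(Scheme.residue_residueFieldMap f (genericPoint X)) _)
  rwa [hr] at h

/-- The cokernel of the trace pairing. -/
abbrev QQ : Y.Modules := cokernel (prMap e hn)

variable (hf : f ≫ (Y ↘ Spec (CommRingCat.of k)) = X ↘ Spec (CommRingCat.of k))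
  (hdX : topologicalKrullDim X = 1) (hdY : topologicalKrullDim Y = 1)
  (hnX : ∀ x : X, IsIntegrallyClosed (X.presheaf.stalk x))
  (hsep : letI := (PaLe.ffHom e).toAlgebra; Algebra.IsSeparable Y.functionField X.functionField)

include k in
theorem isCoh_QQ : Coh.IsCoh (QQ e hn) := by
  haveI := CurveCohLib.isNoetherian_of_proper (k := k) (X := Y)
  exact QCoh.isCoh_cokernel (isCoh_EE k).1 (RefX.isCoh_dual (isCoh_EE k)) (prMap e hn)

include hsep in
/-- The pairing is nondegenerate. -/
theorem eq_zero_of_pr {W : Y.Opens} (hW : IsAffineOpen W) (hηW : genericPoint Y ∈ W) (a : Γ(EE f, W))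
    (h : ∀ b, pr e hn a b = 0) : a = 0 := by
  letI : Algebra Y.functionField X.functionField := (PaLe.ffHom e).toAlgebra
  haveI := hsep
  haveI := PaLe.finite_ff e
  haveI : Nonempty W := ⟨⟨_, hηW⟩⟩
  haveI := nonempty_preimage e hηW
  haveI hfr : IsFractionRing Γ(X, f ⁻¹ᵁ W) X.functionField :=
    functionField_isFractionRing_of_isAffineOpen X (f ⁻¹ᵁ W) (hW.preimage f)
  haveI : IsFractionRing Γ(Y, W) Y.functionField := functionField_isFractionRing_of_isAffineOpen Y W hW
  letI := H23.CoverPush.alg f W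
  haveI : Module.Finite Γ(Y, W) Γ(X, f ⁻¹ᵁ W) := IsFinite.finite_app f W hW
  have hgX : PaLe.gX e hηW (fn a) = 0 := by
    refine (traceForm_nondegenerate Y.functionField X.functionField).1 _ fun w => ?_
    obtain ⟨s, d, hd, rfl⟩ := IsFractionRing.div_surjective Γ(X, f ⁻¹ᵁ W) w
    -- clear the denominator inside the functions on `W`
    obtain ⟨c, hc0, d', hd'⟩ : ∃ c : Γ(Y, W), c ≠ 0 ∧ ∃ d' : Γ(X, f ⁻¹ᵁ W), f.app W c = d * d' := by
      have hint : IsIntegral Γ(Y, W) d := Algebra.IsIntegral.isIntegral d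
      obtain ⟨i, hc0, hc⟩ := Ideal.exists_coeff_ne_zero_mem_comap_of_root_mem (f := algebraMap Γ(Y, W) Γ(X, f ⁻¹ᵁ W))
        (I := Ideal.span {d}) (nonZeroDivisors.ne_zero hd) (Ideal.mem_span_singleton_self d)
        (minpoly.ne_zero hint) (minpoly.aeval _ _)
      obtain ⟨d', hd'⟩ := Ideal.mem_span_singleton'.1 hc
      exact ⟨_, hc0, d', hd'.symm.trans (mul_comm _ _)⟩
    have h1 : Algebra.trace Y.functionField X.functionField
        ((1 : X.functionField) * PaLe.gX e hηW (fn a * (s * d'))) = 0 := by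
      rw [← PaLe.trSec_spec e hn 1 (isIntFun_one e) hηW]
      exact (congrArg _ (h (s * d'))).trans (map_zero _)
    have hc0' : Y.presheaf.germ W _ hηW c ≠ 0 := fun h0 => hc0 (gη_injective hηW (h0.trans (map_zero _).symm))
    have hd0 : PaLe.gX e hηW d ≠ 0 := fun h0 => nonZeroDivisors.ne_zero hd
      (IsFractionRing.injective Γ(X, f ⁻¹ᵁ W) X.functionField (h0.trans (map_zero _).symm))
    rw [Algebra.traceForm_apply]
    refine (smul_eq_zero.1 ?_).resolve_left hc0'
    rw [← map_smul, Algebra.smul_def]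
    refine Eq.trans (congrArg _ ?_) h1
    show PaLe.ffHom e (Y.presheaf.germ W _ hηW c) *
      (PaLe.gX e hηW (fn a) * (PaLe.gX e hηW s / PaLe.gX e hηW d)) = _
    rw [← PaLe.gX_app e hηW c, hd', one_mul, map_mul, map_mul, map_mul]
    field_simp
  exact IsFractionRing.injective Γ(X, f ⁻¹ᵁ W) X.functionField (hgX.trans (map_zero _).symm)

include k hsep in
theorem mono_prMap : Mono (prMap e hn) := by
  refine RGLib.GenericQuot.mono_of_app_injective (isCoh_EE k).1
    (haveI := CurveCohLib.isNoetherian_of_proper (k := k) (X := Y); (RefX.isCoh_dual (isCoh_EE k (f := f))).1)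
    _ (fun U : {U : Y.Opens // IsAffineOpen U ∧ genericPoint Y ∈ U} => U.1) (fun U => U.2.1) (fun y => ?_)
    fun U => (injective_iff_map_eq_zero _).2 fun a ha => eq_zero_of_pr e hn hsep U.2.1 U.2.2 a fun b => ?_
  · obtain ⟨_, ⟨U, hU, rfl⟩, hy, -⟩ := Y.isBasis_affineOpens.exists_subset_of_mem_open (Set.mem_univ y) isOpen_univ
    exact ⟨⟨U, hU, eta_mem hy⟩, hy⟩
  · rw [← app_prMap, ha]
    refine ZClosLib.section_ext (Coh.structureModule Y) _ _ fun z hz => ?_
    rw [RefX.germ_app, map_zero]
    rfl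

theorem shortExact_prMap (h : Mono (prMap e hn)) :
    (ShortComplex.mk (prMap e hn) (cokernel.π (prMap e hn)) (cokernel.condition _)).ShortExact :=
  haveI := h
  CurveSlope.shortExact_cokernel_of_mono _

include k hdX hdY hsep in
theorem isClosed_support_QQ : ∀ y ∈ CohB1.support (QQ e hn), IsClosed ({y} : Set Y) := by
  intro y hy
  by_contra hc
  refine hy ?_
  haveI := CurveCohLib.isNoetherian_of_proper (k := k) (X := Y)
  obtain rfl := CurveCohLib.eq_genericPoint_of_not_isClosed hdY hc
  have hlf := isFinLocFreeOfRank_EE k e hn hdX hdY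
  have h1 := CurveSlope.rk_add_coh k (prMap e hn) _ (cokernel.condition _)
    (shortExact_prMap e hn (mono_prMap k e hn hsep)) (RefX.isCoh_dual (isCoh_EE k))
  rw [rk_eq hlf, show rk (RefHull.homSh (EE f) (Coh.structureModule Y)) = _ from
    rk_eq (isFinLocFreeOfRank_dual hlf)] at h1
  letI := (isField_stalk_generic (X := Y)).toField
  haveI := finite_stalk_of_coh (isCoh_QQ k e hn) (genericPoint Y)
  exact Module.finrank_zero_iff.1 (show rk (QQ e hn) = 0 by show rk (cokernel _) = 0; omega)

include k hf hdX hdY hsep in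
/-- The Euler characteristics differ by the cokernel. -/
theorem euler_formula :
    2 * Curv2.euler k X (Coh.structureModule X) + (Module.finrank k (Coh.HH Y (QQ e hn) 0) : ℤ) =
      2 * (letI := (PaLe.ffHom e).toAlgebra; Module.finrank Y.functionField X.functionField : ℕ) *
        Curv2.euler k Y (Coh.structureModule Y) := by
  haveI := CurveCohLib.isNoetherian_of_proper (k := k) (X := Y)
  have hlf := isFinLocFreeOfRank_EE k e hn hdX hdY
  have h1 := CurveCohLib.euler_additive (k := k) (shortExact_prMap e hn (mono_prMap k e hn hsep)) (isCoh_EE k)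
    (RefX.isCoh_dual (isCoh_EE k)) (isCoh_QQ k e hn)
  have h2 := deg_dual k hdY (regular_stalk k hdY.le hn) _ _ hlf
  have h3 := CurveCohLib.euler_eq_finrank_zero (k := k) (isCoh_QQ k e hn) (isClosed_support_QQ k e hn hdX hdY hsep)
  have h4 : Curv2.euler k Y (EE f) = Curv2.euler k X (Coh.structureModule X) :=
    IntNum.euler_push k f hf QCoh.isQCoh_structureModule
  unfold Curv2.deg at h2
  change Curv2.euler k Y (RefHull.dual (EE f)) = Curv2.euler k Y (EE f) + Curv2.euler k Y (QQ e hn) at h1
  linarith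

include k in
theorem isFP_EE : CohB1.IsFP (EE f) := by
  haveI := CurveCohLib.isNoetherian_of_proper (k := k) (X := Y)
  exact QCoh.isCoh_iff_isFP.1 (isCoh_EE k)

include k hf hdX hdY hnX hsep in
/-- Sections of the cokernel on an affine open. -/
theorem exists_quotEquiv {W : Y.Opens} (hW : IsAffineOpen W) (hηW : genericPoint Y ∈ W) :
    letI := H23.CoverPush.alg f W
    letI := kAlg k Y W
    letI := kAlg k X (f ⁻¹ᵁ W)
    letI : Module k Γ(QQ e hn, W) := Module.compHom _ (kHom k Y W)
    ∀ [IsDomain Γ(Y, W)] [IsDedekindDomain Γ(Y, W)] [IsDomain Γ(X, f ⁻¹ᵁ W)] [IsDedekindDomain Γ(X, f ⁻¹ᵁ W)]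
      [Module.Finite Γ(Y, W) Γ(X, f ⁻¹ᵁ W)] [Module.IsTorsionFree Γ(Y, W) Γ(X, f ⁻¹ᵁ W)]
      [IsScalarTower k Γ(Y, W) Γ(X, f ⁻¹ᵁ W)],
    Nonempty (((Γ(X, f ⁻¹ᵁ W) →ₗ[Γ(Y, W)] Γ(Y, W)) ⧸
      LinearMap.range ((trPair (S := Γ(X, f ⁻¹ᵁ W)) Γ(Y, W)).restrictScalars k)) ≃ₗ[k] Γ(QQ e hn, W)) := by
  letI := H23.CoverPush.alg f W
  letI := kAlg k Y W
  letI := kAlg k X (f ⁻¹ᵁ W)
  letI : Module k Γ(QQ e hn, W) := Module.compHom _ (kHom k Y W)
  intro _ _ _ _ _ _ _
  haveI := CurveCohLib.isNoetherian_of_proper (k := k) (X := Y)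
  haveI : Nonempty W := ⟨⟨_, hηW⟩⟩
  haveI := nonempty_preimage e hηW
  have hq : Coh.IsQCoh (EE f) := (isCoh_EE k).1
  let θ : (Γ(X, f ⁻¹ᵁ W) →ₗ[Γ(Y, W)] Γ(Y, W)) → (letI := RefX.resModule (Coh.structureModule Y) (le_refl W)
      Γ(EE f, W) →ₗ[Γ(Y, W)] Γ(Coh.structureModule Y, W)) := fun φ =>
    letI := RefX.resModule (Coh.structureModule Y) (le_refl W)
    { toFun := fun a => φ (fn a)
      map_add' := fun a b => map_add φ (fn a) (fn b)
      map_smul' := fun r a => (map_smul φ r (fn a)).trans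
        (congrArg (fun t => t * φ (fn a)) (AModX.resR_self r).symm) }
  let L : (Γ(X, f ⁻¹ᵁ W) →ₗ[Γ(Y, W)] Γ(Y, W)) → Γ(RefHull.homSh (EE f) (Coh.structureModule Y), W) :=
    fun φ => RefX.ofLin hq hW le_rfl (θ φ)
  have hL : ∀ φ a, RefX.app le_rfl (L φ) a = φ (fn a) := fun φ a => by
    refine ZClosLib.section_ext (Coh.structureModule Y) _ _ fun y hy => ?_
    rw [RefX.germ_app]
    exact RefX.ofLin_germ hq hW le_rfl (θ φ) hy a
  have hext : ∀ g g' : Γ(RefHull.homSh (EE f) (Coh.structureModule Y), W),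
      (∀ a, RefX.app le_rfl g a = RefX.app le_rfl g' a) → g = g' := RefX.toLin_injective hq hW
  let π := cokernel.π (prMap e hn)
  have happ : ∀ g g' : Γ(RefHull.homSh (EE f) (Coh.structureModule Y), W), ∀ a,
      RefX.app le_rfl (g + g') a = RefX.app le_rfl g a + RefX.app le_rfl g' a := fun g g' a => by
    refine ZClosLib.section_ext (Coh.structureModule Y) _ _ fun y hy => ?_
    rw [RefX.germ_app, map_add, RefX.germ_app, RefX.germ_app]
    rfl
  have happs : ∀ (r : Γ(Y, W)) (g : Γ(RefHull.homSh (EE f) (Coh.structureModule Y), W)) (a),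
      RefX.app le_rfl (r • g) a = r • RefX.app le_rfl g a := fun r g a => by
    refine ZClosLib.section_ext (Coh.structureModule Y) _ _ fun y hy => ?_
    rw [RefX.germ_app, QCoh.germ_smul', RefX.germ_app, RefX.smul_val]
    rfl
  let Λ : (Γ(X, f ⁻¹ᵁ W) →ₗ[Γ(Y, W)] Γ(Y, W)) →ₗ[k] Γ(QQ e hn, W) :=
    { toFun := fun φ => π.app W (L φ)
      map_add' := fun φ ψ => by
        rw [← map_add]
        refine congrArg _ (hext _ _ fun a => ?_)
        rw [happ, hL, hL, hL]
        rfl
      map_smul' := fun c φ => by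
        refine Eq.trans ?_ (Scheme.Modules.Hom.app_smul π (kHom k Y W c) (L φ))
        refine congrArg _ (hext _ _ fun a => ?_)
        rw [happs, hL, hL]
        rfl }
  have hS := shortExact_prMap e hn (mono_prMap k e hn hsep)
  have hsurj : Function.Surjective Λ := fun z => by
    obtain ⟨g, rfl⟩ := QCoh.app_surjective_of_shortExact hS (isCoh_EE k).1 hW z
    refine ⟨{ toFun := fun s => RefX.app le_rfl g (show Γ(EE f, W) from s),
              map_add' := fun s t => RefX.app_add le_rfl g (show Γ(EE f, W) from s) (show Γ(EE f, W) from t),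
              map_smul' := fun r s => RefX.app_smul le_rfl g r (show Γ(EE f, W) from s) }, ?_⟩
    exact congrArg _ (hext _ _ fun a => hL _ a)
  have htr : ∀ s t : Γ(X, f ⁻¹ᵁ W),
      Algebra.intTrace Γ(Y, W) Γ(X, f ⁻¹ᵁ W) (s * t) = PaLe.trSec e hn 1 (isIntFun_one e) W (s * t) := fun s t => by
    letI : Algebra Y.functionField X.functionField := (PaLe.ffHom e).toAlgebra
    haveI := hsep
    haveI := PaLe.finite_ff e
    haveI : IsFractionRing Γ(Y, W) Y.functionField := functionField_isFractionRing_of_isAffineOpen Y W hW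
    haveI : IsFractionRing Γ(X, f ⁻¹ᵁ W) X.functionField :=
      functionField_isFractionRing_of_isAffineOpen X (f ⁻¹ᵁ W) (hW.preimage f)
    letI : Algebra Γ(Y, W) X.functionField :=
      ((algebraMap Γ(X, f ⁻¹ᵁ W) X.functionField).comp (algebraMap Γ(Y, W) Γ(X, f ⁻¹ᵁ W))).toAlgebra
    haveI : IsScalarTower Γ(Y, W) Γ(X, f ⁻¹ᵁ W) X.functionField := IsScalarTower.of_algebraMap_eq fun _ => rfl
    haveI : IsScalarTower Γ(Y, W) Y.functionField X.functionField :=
      IsScalarTower.of_algebraMap_eq fun r => PaLe.gX_app e hηW r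
    haveI : IsIntegralClosure Γ(X, f ⁻¹ᵁ W) Γ(Y, W) X.functionField := IsIntegralClosure.of_isIntegrallyClosed _ _ _
    refine gη_injective hηW ?_
    refine (Algebra.algebraMap_intTrace (A := Γ(Y, W)) (K := Y.functionField) (L := X.functionField) _).trans
      (Eq.trans ?_ (PaLe.trSec_spec e hn 1 (isIntFun_one e) hηW (s * t)).symm)
    rw [one_mul]
    rfl
  have hker : LinearMap.ker Λ =
      LinearMap.range ((trPair (S := Γ(X, f ⁻¹ᵁ W)) Γ(Y, W)).restrictScalars k) := by
    refine le_antisymm (fun φ hφ => ?_) ?_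
    · obtain ⟨a, ha⟩ := QCoh.exists_app_f_eq hS W (L φ) hφ
      refine ⟨fn a, LinearMap.ext fun t => ?_⟩
      rw [LinearMap.restrictScalars_apply, trPair_apply, htr, ← hL φ (show Γ(EE f, W) from t), ← ha]
      exact (app_prMap e hn a (show Γ(EE f, W) from t)).symm
    · rintro _ ⟨s, rfl⟩
      show π.app W (L _) = 0
      have h1 : L ((trPair (S := Γ(X, f ⁻¹ᵁ W)) Γ(Y, W)).restrictScalars k s) =
          (prMap e hn).app W (show Γ(EE f, W) from s) := hext _ _ fun b => by
        rw [hL, LinearMap.restrictScalars_apply, trPair_apply, htr, app_prMap]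
        rfl
      rw [h1]
      exact congr(($(cokernel.condition (prMap e hn))).app W (show Γ(EE f, W) from s))
  exact ⟨(Submodule.quotEquivOfEq _ _ hker.symm).trans (Λ.quotKerEquivOfSurjective hsurj)⟩

include k hdX hdY hsep in
/-- Global sections of the cokernel are sections over any open containing its support. -/
theorem exists_h0_res {W : Y.Opens} (hsupp : CohB1.support (QQ e hn) ⊆ W) :
    letI : Module k Γ(QQ e hn, W) := Module.compHom _ (kHom k Y W)
    Nonempty (Coh.HH Y (QQ e hn) 0 ≃ₗ[k] Γ(QQ e hn, W)) := by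
  letI : Module k Γ(QQ e hn, W) := Module.compHom _ (kHom k Y W)
  haveI := CurveCohLib.isNoetherian_of_proper (k := k) (X := Y)
  let M := QQ e hn
  have hM := isCoh_QQ k e hn
  have hcl := isClosed_support_QQ k e hn hdX hdY hsep
  let Φ : Coh.HH Y M 0 →ₗ[k] Γ(M, W) :=
    { toFun := fun t => AModX.res M (le_top : W ≤ ⊤) (Sheaf.H.equiv₀ (Coh.toAb M) isTerminalTop t : Γ(M, ⊤))
      map_add' := fun a b => (congrArg (AModX.res M le_top)
        (map_add (Sheaf.H.equiv₀ (Coh.toAb M) isTerminalTop) a b)).trans (map_add _ _ _)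
      map_smul' := fun c t => by
        rw [CurveCohLib.h0Equiv_smul, AModX.res_smul]
        refine congrArg (· • _) ?_
        exact congrArg (AModX.resR (le_top : W ≤ ⊤)) (ConcreteCategory.congr_hom (Y.presheaf.map_id (op ⊤)) _) }
  refine ⟨LinearEquiv.ofBijective Φ ⟨fun a b hab => ?_, fun s => ?_⟩⟩
  · apply (Sheaf.H.equiv₀ (Coh.toAb M) isTerminalTop).injective
    refine ZClosLib.section_ext M _ _ fun y _ => ?_
    by_cases hy : y ∈ W
    · refine Eq.trans (RefX.germ_res M le_top hy _).symm ?_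
      rw [show AModX.res M (le_top : W ≤ ⊤) _ = _ from hab]
      exact RefX.germ_res M le_top hy _
    · exact (CurveCohLib.germ_eq_zero_of_notMem_support _ (U := ⊤) trivial fun h => hy (hsupp h)).trans
        (CurveCohLib.germ_eq_zero_of_notMem_support _ (U := ⊤) trivial fun h => hy (hsupp h)).symm
  · classical
    have hfin := CurveCohLib.finite_of_closedPoints (QCoh.isClosed_support_of_isFT hM.1 hM.2) hcl
    letI := fun y : Y => CurveCohLib.stalkModuleK k M y
    obtain ⟨eq, heq⟩ := CurveCohLib.exists_h0Equiv (k := k) hM hcl hfin.toFinset (by simp)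
    refine ⟨eq.symm fun y => M.presheaf.germ W y.1 (hsupp (hfin.mem_toFinset.1 y.2)) s,
      ZClosLib.section_ext M _ _ fun y hy => ?_⟩
    by_cases hys : y ∈ CohB1.support M
    · refine (RefX.germ_res M le_top hy _).trans ?_
      have h1 := heq (eq.symm fun y => M.presheaf.germ W y.1 (hsupp (hfin.mem_toFinset.1 y.2)) s)
        ⟨y, hfin.mem_toFinset.2 hys⟩
      rw [LinearEquiv.apply_symm_apply] at h1
      exact h1.symm
    · exact ((not_not.1 hys : Subsingleton (M.presheaf.stalk y)).elim _ _)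

end Groth.Agent.HurwNorm
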