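import Groth.Agent.DiffTame.Basic
import Mathlib.RingTheory.Trace.Quotient

/-!
# The different at a prime of a Dedekind domain: tame and wild

For an extension of Dedekind domains with separable fraction fields and a prime `m` of ramification
index `e`, the different is divisible by `m ^ e` exactly if `m` is wildly ramified.
-/

set_option autoImplicit false
set_option linter.style.haveILetI false
set_option maxHeartbeats 800000

namespace Groth.Agent.HurwNorm

universe u

open Ideal nonZeroDivisors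

attribute [local instance] Ideal.Quotient.field FractionRing.liftAlgebra
  FractionRing.isScalarTower_liftAlgebra

variable (A S : Type u) [CommRing A] [IsDomain A] [IsDedekindDomain A]
  [CommRing S] [IsDomain S] [IsDedekindDomain S] [Algebra A S] [Module.Finite A S]
  [Module.IsTorsionFree A S] [Algebra.IsSeparable (FractionRing A) (FractionRing S)]

/-- An element of the fraction field multiplying a nonzero ideal into itself is in the ring. -/
theorem exists_algebraMap_of_mul_mem (K : Type u) [Field K] [Algebra A K] [IsFractionRing A K]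
    (p : Ideal A) (hp : p ≠ ⊥) (z : K) (h : ∀ a ∈ p, ∃ b ∈ p, algebraMap A K a * z = algebraMap A K b) :
    ∃ a : A, algebraMap A K a = z := by
  let N : Submodule A K := Submodule.map (Algebra.linearMap A K) p
  obtain ⟨a₀, ha₀, ha₀0⟩ := Submodule.exists_mem_ne_zero_of_ne_bot hp
  have hN : N ≠ ⊥ := fun hb => by
    have h1 : algebraMap A K a₀ ∈ N := ⟨a₀, ha₀, rfl⟩
    rw [hb, Submodule.mem_bot] at h1
    exact ha₀0 (IsFractionRing.injective A K (h1.trans (map_zero _).symm))
  refine IsIntegrallyClosed.isIntegral_iff.mp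
    (isIntegral_of_smul_mem_submodule N hN ((IsNoetherian.noetherian p).map _) z ?_)
  rintro _ ⟨a, ha, rfl⟩
  obtain ⟨b, hb, hab⟩ := h a ha
  exact ⟨b, hb, by rw [Algebra.linearMap_apply, Algebra.linearMap_apply, smul_eq_mul, mul_comm z]; exact hab.symm⟩

/-- The different is divisible by `m ^ e` exactly at the wildly ramified primes. -/
theorem pow_dvd_differentIdeal_iff (p : Ideal A) [p.IsMaximal] (hp : p ≠ ⊥) (m : Ideal S) [m.IsMaximal]
    [m.LiesOver p] :
    m ^ Ideal.ramificationIdx m A ∣ differentIdeal A S ↔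
      ¬ (Algebra.IsSeparable (A ⧸ p) (S ⧸ m) ∧ ((Ideal.ramificationIdx m A : ℕ) : A ⧸ p) ≠ 0) := by
  classical
  set e := Ideal.ramificationIdx m A
  have he0 : 0 < e := Ideal.ramificationIdx_pos m A
  have hinj : Function.Injective (algebraMap A S) := FaithfulSMul.algebraMap_injective A S
  have hpS : p.map (algebraMap A S) ≠ ⊥ := Ideal.map_ne_bot_of_ne_bot hp
  have hm0 : m ≠ ⊥ := ne_bot_of_le_ne_bot hpS (Ideal.map_le_of_le_comap (m.over_def p).le)
  obtain ⟨Q, hQ, hQsplit⟩ := Ideal.eq_prime_pow_mul_coprime hpS m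
  rw [← IsDedekindDomain.ramificationIdx_eq_normalizedFactors_count p m hpS] at hQsplit
  have hcop : IsCoprime (m ^ e) Q := IsCoprime.pow_left (m := e) (Ideal.isCoprime_iff_sup_eq.2 hQ)
  let V := S ⧸ m ^ e
  let VQ := S ⧸ Q
  letI : Algebra (A ⧸ p) V := Ideal.Quotient.algebraQuotientOfLEComap (by
    rw [← Ideal.map_le_iff_le_comap, hQsplit]; first | exact Ideal.mul_le_right | exact Ideal.mul_le_left)
  letI : Algebra (A ⧸ p) VQ := Ideal.Quotient.algebraQuotientOfLEComap (by
    rw [← Ideal.map_le_iff_le_comap, hQsplit]; first | exact Ideal.mul_le_left | exact Ideal.mul_le_right)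
  haveI : IsScalarTower A (A ⧸ p) V := .of_algebraMap_eq' rfl
  haveI : IsScalarTower A (A ⧸ p) VQ := .of_algebraMap_eq' rfl
  haveI : Module.Finite (A ⧸ p) V := Module.Finite.of_restrictScalars_finite A _ _
  haveI : Module.Finite (A ⧸ p) VQ := Module.Finite.of_restrictScalars_finite A _ _
  let ε : (S ⧸ p.map (algebraMap A S)) ≃ₐ[A ⧸ p] (V × VQ) :=
    { __ := (Ideal.quotEquivOfEq hQsplit).trans (Ideal.quotientMulEquivQuotientProd (m ^ e) Q hcop),
      commutes' := Quotient.ind fun _ ↦ rfl }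
  have hεfst : ∀ x : S, (ε (Ideal.Quotient.mk _ x)).1 = Ideal.Quotient.mk _ x := fun _ => rfl
  have hεsnd : ∀ x : S, (ε (Ideal.Quotient.mk _ x)).2 = Ideal.Quotient.mk _ x := fun _ => rfl
  -- the trace modulo `p`
  have htr : ∀ x ∈ Q, Ideal.Quotient.mk p (Algebra.intTrace A S x) =
      Algebra.trace (A ⧸ p) V (Ideal.Quotient.mk _ x) := fun x hx => by
    rw [← Algebra.trace_quotient_eq_of_isDedekindDomain, ← Algebra.trace_eq_of_algEquiv ε,
      Algebra.trace_prod_apply, hεfst, hεsnd, Ideal.Quotient.eq_zero_iff_mem.2 hx, map_zero, add_zero]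
  -- a uniformizer
  obtain ⟨π, hπm, hπ2⟩ : ∃ π ∈ m, π ∉ m ^ 2 :=
    SetLike.exists_of_lt (show m ^ 2 < m from (Ideal.pow_right_strictAnti m hm0 (Ideal.IsPrime.ne_top inferInstance)
      (show 1 < 2 by norm_num)).trans_eq (pow_one m))
  set t : V := Ideal.Quotient.mk _ π with ht
  have hte : t ^ e = 0 := by
    rw [ht, ← map_pow, Ideal.Quotient.eq_zero_iff_mem]
    exact Ideal.pow_mem_pow hπm e
  have hne : ∀ i, i < e → t ^ i ≠ 0 := fun i hi h0 => by
    rw [ht, ← map_pow, Ideal.Quotient.eq_zero_iff_mem] at h0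
    have h1 : Ideal.span {π} ^ i ≤ m ^ (i + 1) := by
      rw [Ideal.span_singleton_pow, Ideal.span_le, Set.singleton_subset_iff]
      exact Ideal.pow_le_pow_right (by omega) h0
    obtain ⟨J, hJ⟩ : m ∣ Ideal.span {π} := Ideal.dvd_iff_le.2 (by simpa using hπm)
    rw [← Ideal.dvd_iff_le, hJ, mul_pow, pow_succ] at h1
    have h2 : m ∣ J ^ i := (mul_dvd_mul_iff_left (pow_ne_zero i hm0)).1 h1
    have h3 : m ∣ J := (Ideal.prime_of_isPrime hm0 inferInstance).dvd_of_dvd_pow h2
    refine hπ2 (Ideal.dvd_iff_le.1 (show m ^ 2 ∣ Ideal.span {π} from ?_) (Ideal.mem_span_singleton_self π))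
    rw [hJ, pow_two]
    exact mul_dvd_mul_left m h3
  have hsupm : Ideal.span {π} ⊔ m ^ e = m := by
    rcases Nat.eq_or_lt_of_le (Nat.one_le_iff_ne_zero.2 he0.ne') with h | h
    · rw [← h, pow_one]
      exact sup_eq_right.2 (by simpa using hπm)
    refine le_antisymm (sup_le (by simpa using hπm) (Ideal.pow_le_self he0.ne')) ?_
    set G := Ideal.span {π} ⊔ m ^ e
    have hG : G ∣ m ^ e := Ideal.dvd_iff_le.2 le_sup_right
    obtain ⟨i, hi, hGi⟩ := (dvd_prime_pow (Ideal.prime_of_isPrime hm0 inferInstance) e).1 hG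
    rw [associated_iff_eq] at hGi
    rw [hGi]
    rcases Nat.lt_or_ge i 2 with hi2 | hi2
    · interval_cases i
      · simp
      · simp
    · exact absurd (Ideal.pow_le_pow_right hi2 (hGi ▸ (le_sup_left : Ideal.span {π} ≤ G)
        (Ideal.mem_span_singleton_self π))) hπ2
  let g : S →+* V ⧸ Ideal.span {t} := (Ideal.Quotient.mk _).comp (Ideal.Quotient.mk _)
  have hgker : RingHom.ker g = m := by
    rw [← RingHom.comap_ker, Ideal.mk_ker, ht, ← Set.image_singleton, ← Ideal.map_span,
      Ideal.comap_map_of_surjective _ Ideal.Quotient.mk_surjective, ← RingHom.ker_eq_comap_bot, Ideal.mk_ker, hsupm]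
  have hgsurj : Function.Surjective g :=
    Ideal.Quotient.mk_surjective.comp Ideal.Quotient.mk_surjective
  have hmem : ∀ x : S, Ideal.Quotient.mk (m ^ e) x ∈ Ideal.span {t} ↔ x ∈ m := fun x => by
    refine Iff.trans ?_ (SetLike.ext_iff.1 hgker x)
    rw [RingHom.mem_ker, ← Ideal.Quotient.eq_zero_iff_mem]; rfl
  have hu : ∀ v : V, v ∉ Ideal.span {t} → IsUnit v := fun v hv => by
    obtain ⟨x, rfl⟩ := Ideal.Quotient.mk_surjective v
    rw [hmem] at hv
    obtain ⟨y, i, hi, hyi⟩ := (show m.IsMaximal from inferInstance).exists_inv hv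
    have hi' : y * x = 1 - i := eq_sub_iff_add_eq.2 hyi
    have hni : IsNilpotent (Ideal.Quotient.mk (m ^ e) i) := ⟨e, by
      rw [← map_pow, Ideal.Quotient.eq_zero_iff_mem]; exact Ideal.pow_mem_pow hi e⟩
    have hu1 : IsUnit (Ideal.Quotient.mk (m ^ e) (y * x)) := by
      rw [hi', map_sub, map_one]; exact hni.isUnit_one_sub
    rw [map_mul] at hu1
    exact isUnit_of_mul_isUnit_right hu1
  have hnu : ¬ IsUnit t := fun hut => by
    have h1 : (1 : S) ∈ m := (hmem 1).1 (by rw [Ideal.span_singleton_eq_top.2 hut]; exact Submodule.mem_top)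
    exact (Ideal.ne_top_iff_one m).1 (Ideal.IsPrime.ne_top inferInstance) h1
  have htrV : ∀ v : V, Algebra.trace (A ⧸ p) V v =
      e • Algebra.trace (A ⧸ p) (V ⧸ Ideal.span {t}) (Ideal.Quotient.mk _ v) :=
    DiffTame.trace_eq_nsmul t e hte hne hu hnu
  let εm : (S ⧸ m) ≃ₐ[A ⧸ p] (V ⧸ Ideal.span {t}) :=
    { __ := (Ideal.quotEquivOfEq hgker.symm).trans (RingHom.quotientKerEquivOfSurjective hgsurj),
      commutes' := Quotient.ind fun _ ↦ rfl }
  have hP : m ^ e * Q = p.map (algebraMap A S) := hQsplit.symm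
  constructor
  · rintro hdvd ⟨hs, hn⟩
    haveI := hs
    obtain ⟨y, hy⟩ : ∃ y, Algebra.trace (A ⧸ p) (S ⧸ m) y ≠ 0 := by
      by_contra! h
      exact Algebra.trace_ne_zero (A ⧸ p) (S ⧸ m) (LinearMap.ext h)
    obtain ⟨v, hv⟩ := Ideal.Quotient.mk_surjective (εm y)
    obtain ⟨x, hx⟩ := Ideal.Quotient.mk_surjective (ε.symm (v, 0))
    have hxQ : x ∈ Q := by
      rw [← Ideal.Quotient.eq_zero_iff_mem, ← hεsnd, hx, AlgEquiv.apply_symm_apply]
    refine not_dvd_differentIdeal_of_intTrace_not_mem A (m ^ e) Q hP x hxQ (fun h => ?_) hdvd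
    rw [← Ideal.Quotient.eq_zero_iff_mem, htr x hxQ, htrV, ← hεfst, hx, AlgEquiv.apply_symm_apply, hv,
      Algebra.trace_eq_of_algEquiv, nsmul_eq_mul, mul_eq_zero] at h
    exact h.elim hn hy
  · intro hwild
    have hall : ∀ x ∈ Q, Algebra.intTrace A S x ∈ p := fun x hx => by
      rw [← Ideal.Quotient.eq_zero_iff_mem, htr x hx, htrV, nsmul_eq_mul]
      by_cases hn : ((e : ℕ) : A ⧸ p) = 0
      · rw [hn, zero_mul]
      · have hns : ¬ Algebra.IsSeparable (A ⧸ p) (S ⧸ m) := fun hs => hwild ⟨hs, hn⟩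
        rw [← Algebra.trace_eq_of_algEquiv εm.symm, Algebra.trace_eq_zero_of_not_isSeparable hns,
          LinearMap.zero_apply, mul_zero]
    let K := FractionRing A
    let L := FractionRing S
    haveI : IsLocalization (Algebra.algebraMapSubmonoid S A⁰) L :=
      IsIntegralClosure.isLocalization _ K _ _
    haveI : FiniteDimensional K L := .of_isLocalization A S A⁰
    have hme : m ^ e ≠ ⊥ := pow_ne_zero e hm0
    rw [Ideal.dvd_iff_le, differentialIdeal_le_iff (K := K) (L := L) hme, Submodule.map_le_iff_le_comap]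
    intro z hz
    rw [Submodule.restrictScalars_mem, FractionalIdeal.mem_coe,
      FractionalIdeal.mem_inv_iff (FractionalIdeal.coeIdeal_ne_zero.2 hme)] at hz
    rw [Submodule.mem_comap, LinearMap.coe_restrictScalars, Submodule.mem_one]
    refine exists_algebraMap_of_mul_mem A K p hp _ fun a ha => ?_
    -- `a z` lies in `Q`
    have haz : algebraMap A L a * z ∈ ((Q : Ideal S) : FractionalIdeal S⁰ L) := by
      have h1 : algebraMap S L (algebraMap A S a) ∈ ((m ^ e * Q : Ideal S) : FractionalIdeal S⁰ L) :=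
        ⟨algebraMap A S a, hP ▸ Ideal.mem_map_of_mem _ ha, rfl⟩
      rw [IsScalarTower.algebraMap_apply A S L, FractionalIdeal.coeIdeal_mul] at *
      refine FractionalIdeal.mul_induction_on h1 (fun i hi j hj => ?_) fun x y hx hy => ?_
      · obtain ⟨c, hc⟩ := (FractionalIdeal.mem_one_iff _).1 (hz i hi)
        obtain ⟨q, hq, rfl⟩ := hj
        refine ⟨c * q, Q.mul_mem_left c hq, ?_⟩
        rw [Algebra.linearMap_apply, Algebra.linearMap_apply, map_mul, hc]
        ring
      · rw [add_mul]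
        exact Submodule.add_mem _ hx hy
    obtain ⟨q, hq, hqz⟩ := haz
    refine ⟨Algebra.intTrace A S q, hall q hq, ?_⟩
    rw [Algebra.algebraMap_intTrace (A := A) (K := K) (L := L), ← Algebra.linearMap_apply S L, hqz,
      ← Algebra.smul_def a z, LinearMap.map_smul_of_tower, Algebra.smul_def]

end Groth.Agent.HurwNorm
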